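import Cfsg.Agent.Mrg.Omega.IId.BigFour.Entry
import Cfsg.Agent.Mrg.Omega.IId.TwoK
import Cfsg.Agent.Mrg.Omega.IId.Sup
import Cfsg.Agent.Mrg.Omega.ThmC.FourOf
import Cfsg.Agent.Omega.HOneEnd.EndIn
import Cfsg.Agent.Mrg.Omega.HOneEnd.SysID
import Cfsg.Agent.Mrg.Omega.HOneEnd.TwoInst
import Cfsg.Agent.Mrg.Omega.HOneEnd.FFourDefs
import Cfsg.Agent.Mrg.Omega.HOneEnd.FFourGEmb
import Cfsg.Agent.Mrg.Omega.HOneEnd.FFourEmb
import Cfsg.Agent.Mrg.Omega.IId.M4.Graph
import Cfsg.Agent.Mrg.Omega.HOneEnd.SpIota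
import Cfsg.Agent.Mrg.Omega.All.SpN.Long
import Cfsg.Agent.Mrg.Omega.All.HOneNat
import Cfsg.Agent.Mrg.Omega.HOne.CutT

-- merged: Cfsg.Agent.Mrg.Omega.IId.BigFour.Cut
section

section


/-!
# II.d, `WrBigFour K`: the cut (helper540)

* `Ent` : the data of CASE 1, unmixed, any number of factors; `NoBigEnt K` : impossible for `k > 2`;
* `CaseTwo K` : CASE 2: `N_S(V_i)` or `N_{S'}(V_i')` is not a Sylow 2-subgroup of `N_G(R)`; a side in CASE 1 with at
  least two factors is mixed;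
* `wrBigFour_of` : `ThmC → NoTwoEnt K → NoBigEnt K → CaseTwo K → WrBigFour K`.
-/

set_option autoImplicit false
set_option linter.unusedSectionVars false

namespace Cfsg.Agent.Omega.IId.BigFour

open Subgroup Cfsg Cfsg.Agent.ZN.ChoiceBase
open Cfsg.Agent.ZN (o2 zc zl)
open Cfsg.Agent.Omega.MinPar Cfsg.Agent.Omega.FFThm Cfsg.Agent.Omega.Frame
open Cfsg.Agent.Lib.SL2Mat
open Cfsg.Agent.Omega.NatPair (ap NatMod PreMod)
open scoped commutatorElement

universe u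

/-! ### The pair -/

section pair

variable {G : Type u} [Group G] [Finite G] {F F' : Type} [Field F] [Finite F] [CharP F 2]
  [Field F'] [Finite F'] [CharP F' 2] {S S' : Sylow 2 G} {P P' : Subgroup G} {k k' : ℕ}

/-- `R = [V, V']` is a line of one factor on each side, and these two factors do not commute. -/
theorem exists_sides (hc : IsCharacteristicTwoType G) (h : Pair S S' P P')
    (hT : NoOver (zl (S : Subgroup G) P) P) (hT' : NoOver (zl (S' : Subgroup G) P') P')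
    (M : NatK F (S : Subgroup G) P (zl (S : Subgroup G) P) ⊥ k)
    (M' : NatK F' (S' : Subgroup G) P' (zl (S' : Subgroup G) P') ⊥ k') (hk' : 1 ≤ k')
    (hq : Nat.card ↥⁅zl (S : Subgroup G) P, zl (S' : Subgroup G) P'⁆ = Nat.card F) :
    ∃ (i : Fin k) (i' : Fin k'), ⁅zl (S : Subgroup G) P, zl (S' : Subgroup G) P'⁆ = line M i ∧
      line M i = line M' i' ∧ ∃ v ∈ fac M i, ∃ w ∈ fac M' i', v * w ≠ w * v := by
  obtain ⟨I, hI⟩ := exists_ind M h.le (h.off hc hT')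
  obtain ⟨I', hI'⟩ := exists_ind M' h.le' (h.symm.off hc hT)
  have hVP : zl (S' : Subgroup G) P' ≤ P := h.le.trans h.star.le
  have hVP' : zl (S : Subgroup G) P ≤ P' := h.le'.trans h.star'.le
  obtain ⟨i, hIi, hi⟩ := hI.eq_line hVP hq
  obtain ⟨i', -, hl, hact⟩ := exists_match hI hI' hVP hVP' (by omega) (i := i) (by rw [hIi]; rfl)
  refine ⟨i, i', hi, hl, ?_⟩
  obtain ⟨v, hv, hve⟩ := exists_fac M i ![0, 1]
  obtain ⟨c, hcj, -, hca⟩ := hact v hv (by rw [hve]; exact one_ne_zero)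
  obtain ⟨a, ha, hae⟩ := exists_fac M' i' ![0, 1]
  refine ⟨v, hv, a, ha, ?_⟩
  intro h0
  have h1 := (e_comm ha.1 (hVP' hv.1) hca i').2.1
  have h2 : ⁅a, v⁆ = 1 := commutatorElement_eq_one_iff_mul_comm.2 h0.symm
  rw [h2, e_one, hae] at h1
  apply hcj
  have h3 : (0 : F') = -(c i' * 1) := h1
  rw [mul_one] at h3
  exact neg_eq_zero.1 h3.symm

/-- CASE 1 on both sides: the same number of factors -/
theorem card_eq_of_syl (h : Pair S S' P P') (M : NatK F (S : Subgroup G) P (zl (S : Subgroup G) P) ⊥ k)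
    (M' : NatK F' (S' : Subgroup G) P' (zl (S' : Subgroup G) P') ⊥ k') {i : Fin k} {i' : Fin k'}
    (hl : line M i = line M' i') (hd : ¬ 2 ∣ (stab M i).relIndex (normalizer (line M i : Set G)))
    (hd' : ¬ 2 ∣ (stab M' i').relIndex (normalizer (line M' i' : Set G))) : k = k' := by
  have hSP : (S : Subgroup G) ≤ P := h.star.isLoc.le
  have hSP' : (S' : Subgroup G) ≤ P' := h.star'.isLoc.le
  have h1 : stab M' i' ≤ normalizer (line M i : Set G) := by
    rw [hl]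
    exact stab_normalizes_line M' hSP' i'
  have h2 : stab M i ≤ normalizer (line M' i' : Set G) := by
    rw [← hl]
    exact stab_normalizes_line M hSP i
  have h3 := SideOf.card_dvd_of (stab_normalizes_line M hSP i) hd (S'.isPGroup'.to_le (stab_le M' i')) h1
  have h4 := SideOf.card_dvd_of (stab_normalizes_line M' hSP' i') hd' (S.isPGroup'.to_le (stab_le M i)) h2
  have h5 := Nat.dvd_antisymm h3 h4
  have h6 := card_stab M hSP i
  have h7 := card_stab M' hSP' i'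
  have h8 : Nat.card (S : Subgroup G) = Nat.card (S' : Subgroup G) := by
    have : Fact (Nat.Prime 2) := ⟨Nat.prime_two⟩
    rw [S.card_eq_multiplicity, S'.card_eq_multiplicity]
  rw [h6, h7, h5] at h8
  exact Nat.eq_of_mul_eq_mul_right Nat.card_pos h8

end pair

/-! ### The Props -/

/-- The data of CASE 1, unmixed: `T = stab M i`, `V_i = fac M i`, `R = line M i`. -/
structure Ent (K : Cls.{u}) {G : Type u} [Group G] [Finite G] (S : Sylow 2 G) (P : Subgroup G) {F : Type} [Field F]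
    [Finite F] [CharP F 2] {k : ℕ} (M : NatK F (S : Subgroup G) P (zl (S : Subgroup G) P) ⊥ k) (i : Fin k)
    (N : NatMod F (fac M i)) : Prop where
  hyp : Hyp K S
  four : BFour M i
  /-- the coordinates -/
  e : ∀ x, M.e (N.e x) i = x
  line : N.line ![1, 0] = line M i
  /-- `T` is a Sylow 2-subgroup of `N_G(V_i)` -/
  syl : ¬ 2 ∣ (stab M i).relIndex (normalizer (fac M i : Set G))
  bts : BTwo.BTS (fac M i) (BTwo.pt N)
  cen : ∀ j, j ≠ i → fac M j ≤ BTwo.CenX (fac M i) (BTwo.pt N)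

/-- CASE 1, unmixed, two factors, is impossible (literally `IId.NoEnt K` of `IId/Fin.lean`, `WrMain4`). -/
def NoTwoEnt (K : Cls.{u}) : Prop :=
  ∀ (G : Type u) [Group G] [Finite G] (S : Sylow 2 G) (P : Subgroup G) (F : Type) [Field F] [Finite F]
    [CharP F 2] (M : NatK F (S : Subgroup G) P (zl (S : Subgroup G) P) ⊥ 2) (i j : Fin 2)
    (N : NatMod F (fac M i)), ¬ FourSide.Ent K S P M i j N

/-- CASE 1, unmixed, more than two factors, is impossible: `|CenX| ≥ q⁴`. -/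
def NoBigEnt (K : Cls.{u}) : Prop :=
  ∀ (G : Type u) [Group G] [Finite G] (S : Sylow 2 G) (P : Subgroup G) (F : Type) [Field F] [Finite F]
    [CharP F 2] (k : ℕ) (M : NatK F (S : Subgroup G) P (zl (S : Subgroup G) P) ⊥ k) (i : Fin k)
    (N : NatMod F (fac M i)), 2 < k → ¬ Ent K S P M i N

/-- The side `M i` is mixed: `⟨V_i^{N_G(R)}⟩` is abelian. -/
def MixSide {G : Type u} [Group G] {F : Type} [Field F] {S P : Subgroup G} {k : ℕ}
    (M : NatK F S P (zl S P) ⊥ k) (i : Fin k) : Prop :=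
  ∀ g ∈ normalizer (line M i : Set G), ∀ v ∈ fac M i, ∀ w ∈ fac M i, v * (g * w * g⁻¹) = g * w * g⁻¹ * v

/-- **CASE 2** for `q ≥ 4`, `k > 2`. -/
def CaseTwo (K : Cls.{u}) : Prop :=
  ∀ (G : Type u) [Group G] [Finite G] (S S' : Sylow 2 G), Hyp K S → ∀ (P P' : Subgroup G), Pair S S' P P' →
    ∀ (F F' : Type) [Field F] [Finite F] [CharP F 2] [Field F'] [Finite F'] [CharP F' 2] (k k' : ℕ)
      (M : NatK F (S : Subgroup G) P (zl (S : Subgroup G) P) ⊥ k)
      (M' : NatK F' (S' : Subgroup G) P' (zl (S' : Subgroup G) P') ⊥ k') (i : Fin k) (i' : Fin k'),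
      2 < k → 1 ≤ k' → 4 ≤ Nat.card F → Nat.card F' = Nat.card F → CC M → CC M' →
      ⁅zl (S : Subgroup G) P, zl (S' : Subgroup G) P'⁆ = line M i → line M i = line M' i' →
      (∃ v ∈ fac M i, ∃ w ∈ fac M' i', v * w ≠ w * v) →
      (¬ 2 ∣ (stab M i).relIndex (normalizer (line M i : Set G)) → MixSide M i) →
      (2 ≤ k' → ¬ 2 ∣ (stab M' i').relIndex (normalizer (line M' i' : Set G)) → MixSide M' i') →
      2 ∣ (stab M i).relIndex (normalizer (line M i : Set G)) ∨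
        2 ∣ (stab M' i').relIndex (normalizer (line M' i' : Set G)) → IsKnownSimple' G

variable {K : Cls.{u}}

/-- The unmixed case, CASE 1. -/
theorem exists_ent {G : Type u} [Group G] [Finite G] {S : Sylow 2 G} {P : Subgroup G} {F : Type}
    [Field F] [Finite F] [CharP F 2] {k : ℕ} {M : NatK F (S : Subgroup G) P (zl (S : Subgroup G) P) ⊥ k} {i : Fin k}
    (hH : Hyp K S) (h : BFour M i) (hne : ¬ MixSide M i) : ∃ N : NatMod F (fac M i), Ent K S P M i N := by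
  unfold MixSide at hne
  push Not at hne
  obtain ⟨g, hg, v, hv, w, hw, hvw⟩ := hne
  obtain ⟨N, hNe, hNl, b, hc⟩ := h.bts hg ⟨v, hv, w, hw, hvw⟩
  exact ⟨N, hH, h, hNe, hNl, h.syl_fac, b, hc⟩

/-- A side in CASE 1 with at least two factors is mixed. -/
theorem mix_of (hE : NoTwoEnt K) (hB : NoBigEnt K) {G : Type u} [Group G] [Finite G] {S : Sylow 2 G} {P : Subgroup G}
    {F : Type} [Field F] [Finite F] [CharP F 2] {k : ℕ} (hk : 2 ≤ k)
    {M : NatK F (S : Subgroup G) P (zl (S : Subgroup G) P) ⊥ k} {i : Fin k} (hH : Hyp K S)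
    (h : BFour M i) : MixSide M i := by
  by_contra hne
  rcases Nat.lt_or_ge 2 k with h2 | h2
  · obtain ⟨N, hN⟩ := exists_ent hH h hne
    exact hB G S P F k M i N h2 hN
  · obtain rfl : k = 2 := le_antisymm h2 hk
    unfold MixSide at hne
    push Not at hne
    obtain ⟨j, hij⟩ : ∃ j : Fin 2, i ≠ j := ⟨i + 1, by omega⟩
    obtain ⟨N, hN⟩ := FourSide.exists_ent hH ⟨h.c2T, h.par, h.q4, h.syl⟩ hij hne
    exact hE G S P F M i j N hN

/-- **`WrBigFour K` from the parts.** -/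
theorem wrBigFour_of (hC : ThmC.{u}) (hE : NoTwoEnt K) (hB : NoBigEnt K) (h2 : CaseTwo K) : WrBigFour K := by
  intro G _ _ S S' hH P P' hp F F' _ _ _ _ _ _ k k' M M' hk hk' h4 hF hq
  have hc := hH.ctx.char2
  obtain ⟨t, t'⟩ := hH.typed' hp
  obtain ⟨i, i', hi, hl, hne⟩ := exists_sides hc hp t.noOver t'.noOver M M' hk' hq
  have hCM : CC M := hC G hc S P hp.star F k M
  have hCM' : CC M' := hC G hc S' P' hp.star' F' k' M'
  have h4' : 4 ≤ Nat.card F' := by rw [hF]; exact h4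
  have hm : ¬ 2 ∣ (stab M i).relIndex (normalizer (line M i : Set G)) → MixSide M i := fun hd =>
    mix_of hE hB (by omega) hH ⟨hc, hp.star, hCM, h4, hd⟩
  have hm' : 2 ≤ k' → ¬ 2 ∣ (stab M' i').relIndex (normalizer (line M' i' : Set G)) → MixSide M' i' :=
    fun hk2 hd => mix_of hE hB hk2 (hH.conj S') ⟨hc, hp.star', hCM', h4', hd⟩
  by_cases hd : 2 ∣ (stab M i).relIndex (normalizer (line M i : Set G)) ∨
      2 ∣ (stab M' i').relIndex (normalizer (line M' i' : Set G))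
  · exact h2 G S S' hH P P' hp F F' k k' M M' i i' hk hk' h4 hF hCM hCM' hi hl hne hm hm' hd
  · exfalso
    push Not at hd
    have hkk := card_eq_of_syl hp M M' hl hd.1 hd.2
    have g1 := hm hd.1
    have g2 := hm' (by omega) hd.2
    obtain ⟨j, hj⟩ : ∃ j : Fin k, j ≠ i := by
      have : Nontrivial (Fin k) := Fin.nontrivial_iff_two_le.2 (by omega)
      exact exists_ne i
    have b : BFour M i := ⟨hc, hp.star, hCM, h4, hd.1⟩
    have b' : BFour M' i' := ⟨hc, hp.star', hCM', h4', hd.2⟩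
    refine mixed_false b b' hl hne g1 ?_ hj
    rw [hl]
    exact g2

end Cfsg.Agent.Omega.IId.BigFour

end

section


/-!
# II.d, `BigFour.CaseTwo`: partners (helper873)

`M : NatK F S P (zl S P) ⊥ k`, `Q_R = O₂(N_G(R))`, `K_R = KR R` for a line `R` of a factor (`R ∈ Lns.lns M j`).

* `Ptn V R W` : `W ≤ K_R`, `Q_R` acts on `V` as `W` does and on `W` as `V` does, `W` induces on `V` the full root
  group with centre `R`;
* `Ptn.of_pair` : `fac M' i'` is a partner of `fac M i` over `line M i = line M' i'`;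
* `Cx M` : all lines of all factors have partners;
* `Cx.cu` : the lemma (CU); `Cx.hV` : `Z(Q_R) ∩ C(O₂(P)) ≤ V` for `R = line M i`.
-/

set_option autoImplicit false
set_option linter.unusedSectionVars false

namespace Cfsg.Agent.Omega.IId.BigFour.SylPt

open Subgroup Cfsg Cfsg.Agent.ZN.ChoiceBase
open Cfsg.Agent.ZN (o2 zc zl)
open Cfsg.Agent.Omega.MinPar Cfsg.Agent.Omega.FFThm Cfsg.Agent.Omega.Frame
open Cfsg.Agent.Lib.SL2Mat
open Cfsg.Agent.Omega.NatPair (ap ap_mul ap_one ap_inv_ap ap_ap_inv exists_ap ap_add)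
open Cfsg.Agent.MinSimple.VModule (o2_isPGroup)
open Cfsg.Agent.Omega.IId.SideOf (KR KR_le_o2 mem_KR le_normalizer_KR isPGroup_of_sq line_sq exists_zc)
open Cfsg.Agent.Omega.IId.Lns

universe u

section ptn

variable {G : Type u} [Group G]

/-- `W` is a partner of `V` over `R`. -/
structure Ptn (V R W : Subgroup G) : Prop where
  WK : W ≤ KR R
  onV : ∀ x ∈ o2 (normalizer (R : Set G)), ∃ w ∈ W, ∀ v ∈ V, x * w * v = v * (x * w)
  onW : ∀ x ∈ o2 (normalizer (R : Set G)), ∃ v ∈ V, ∀ w ∈ W, x * v * w = w * (x * v)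
  full : ∀ v ∈ V, v ∉ R → ∀ r ∈ R, ∃ w ∈ W, w * v * w⁻¹ * v⁻¹ = r

theorem cj_o2 (g : G) (L : Subgroup G) : cj g (o2 L) = o2 (cj g L) :=
  Cfsg.Agent.MinSimple.Geo.cj_o2 g L

theorem cj_o2N (g : G) (R : Subgroup G) :
    cj g (o2 (normalizer (R : Set G))) = o2 (normalizer (cj g R : Set G)) := by
  rw [cj_o2, cj_normalizer]

theorem cj_KR (g : G) (R : Subgroup G) : cj g (KR R) = KR (cj g R) := by
  have key : ∀ (g : G) (R : Subgroup G), cj g (KR R) ≤ KR (cj g R) := by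
    intro g R x hx
    rw [mem_cj, mem_KR] at hx
    rw [mem_KR]
    refine ⟨?_, fun y hy => ?_⟩
    · rw [mem_centralizer_iff]
      intro r hr
      have h1 := mem_centralizer_iff.1 hx.1 (g⁻¹ * r * g) (mem_cj.1 hr)
      calc r * x = g * (g⁻¹ * r * g * (g⁻¹ * x * g)) * g⁻¹ := by group
        _ = g * (g⁻¹ * x * g * (g⁻¹ * r * g)) * g⁻¹ := by rw [h1]
        _ = x * r := by group
    · rw [← cj_o2N, mem_cj] at hy
      have h1 := hx.2 _ hy
      rw [mem_cj]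
      have e : g⁻¹ * (x * y * x⁻¹ * y⁻¹) * g =
          g⁻¹ * x * g * (g⁻¹ * y * g) * (g⁻¹ * x * g)⁻¹ * (g⁻¹ * y * g)⁻¹ := by group
      rw [e]
      exact h1
  refine le_antisymm (key g R) ?_
  have h1 := key g⁻¹ (cj g R)
  rw [cj_inv_cj] at h1
  have h2 := cj_mono g h1
  rwa [cj_cj_inv] at h2

theorem Ptn.conj {V R W : Subgroup G} (h : Ptn V R W) (g : G) : Ptn (cj g V) (cj g R) (cj g W) where
  WK := by
    rw [← cj_KR]
    exact cj_mono g h.WK
  onV x hx := by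
    rw [← cj_o2N, mem_cj] at hx
    obtain ⟨w, hw, h1⟩ := h.onV _ hx
    refine ⟨g * w * g⁻¹, mem_cj.2 (by rwa [show g⁻¹ * (g * w * g⁻¹) * g = w by group]), fun v hv => ?_⟩
    have h2 := h1 _ (mem_cj.1 hv)
    calc x * (g * w * g⁻¹) * v = g * (g⁻¹ * x * g * w * (g⁻¹ * v * g)) * g⁻¹ := by group
      _ = g * (g⁻¹ * v * g * (g⁻¹ * x * g * w)) * g⁻¹ := by rw [h2]
      _ = v * (x * (g * w * g⁻¹)) := by group
  onW x hx := by
    rw [← cj_o2N, mem_cj] at hx
    obtain ⟨w, hw, h1⟩ := h.onW _ hx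
    refine ⟨g * w * g⁻¹, mem_cj.2 (by rwa [show g⁻¹ * (g * w * g⁻¹) * g = w by group]), fun v hv => ?_⟩
    have h2 := h1 _ (mem_cj.1 hv)
    calc x * (g * w * g⁻¹) * v = g * (g⁻¹ * x * g * w * (g⁻¹ * v * g)) * g⁻¹ := by group
      _ = g * (g⁻¹ * v * g * (g⁻¹ * x * g * w)) * g⁻¹ := by rw [h2]
      _ = v * (x * (g * w * g⁻¹)) := by group
  full v hv hvR r hr := by
    obtain ⟨w, hw, h1⟩ := h.full _ (mem_cj.1 hv) (fun h2 => hvR (mem_cj.2 h2)) _ (mem_cj.1 hr)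
    refine ⟨g * w * g⁻¹, mem_cj.2 (by rwa [show g⁻¹ * (g * w * g⁻¹) * g = w by group]), ?_⟩
    calc g * w * g⁻¹ * v * (g * w * g⁻¹)⁻¹ * v⁻¹ = g * (w * (g⁻¹ * v * g) * w⁻¹ * (g⁻¹ * v * g)⁻¹) * g⁻¹ := by
          group
      _ = g * (g⁻¹ * r * g) * g⁻¹ := by rw [h1]
      _ = r := by group

end ptn

section pair

variable {G : Type u} [Group G] [Finite G] {F F' : Type} [Field F] [Finite F] [CharP F 2]
  [Field F'] [Finite F'] [CharP F' 2] {S S' : Sylow 2 G} {P P' : Subgroup G} {k k' : ℕ}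
  {M : NatK F (S : Subgroup G) P (zl (S : Subgroup G) P) ⊥ k}
  {M' : NatK F' (S' : Subgroup G) P' (zl (S' : Subgroup G) P') ⊥ k'} {i : Fin k} {i' : Fin k'}

/-- Every `x ∈ Q_R` acts on `V_i` as some element of `A ≤ Q_R`, if `A` induces `q` elements. -/
theorem act_of_card (h : BOne M i) {A : Subgroup G} (hA : A ≤ o2 (normalizer (line M i : Set G)))
    (hc : Nat.card F * Nat.card ↥(A ⊓ centralizer (fac M i : Set G)) ≤ Nat.card A) :
    ∀ x ∈ o2 (normalizer (line M i : Set G)), ∃ w ∈ A, ∀ v ∈ fac M i, x * w * v = v * (x * w) := by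
  classical
  choose! b hb using fun w (hw : w ∈ o2 (normalizer (line M i : Set G))) => h.o2_up hw
  have hmul : ∀ x ∈ o2 (normalizer (line M i : Set G)), ∀ y ∈ o2 (normalizer (line M i : Set G)),
      b (x * y) = b x + b y := by
    intro x hx y hy
    obtain ⟨v, hv, hve⟩ := exists_fac M i ![0, 1]
    have hyv : y * v * y⁻¹ ∈ fac M i := (mem_normalizer_iff.1 (stab_normalizes M i (h.QT hy)) v).1 hv
    have h1 := hb _ (mul_mem hx hy) v hv
    have h2 := hb x hx _ hyv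
    rw [hb y hy v hv] at h2
    have e : x * (y * v * y⁻¹) * x⁻¹ = x * y * v * (x * y)⁻¹ := by group
    rw [e, h1, hve] at h2
    have h3 := congrFun h2 0
    simpa [NatPair.ap_zero', NatPair.ap_one', up_00, up_01, up_10, up_11, add_comm] using h3
  have hker : ∀ x ∈ o2 (normalizer (line M i : Set G)), b x = 0 → ∀ v ∈ fac M i, x * v = v * x := by
    intro x hx h0 v hv
    have h1 := hb x hx v hv
    rw [h0, up_zero, NatPair.ap_one] at h1
    have h2 : x * v * x⁻¹ = v :=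
      ext_fac M ((mem_normalizer_iff.1 (stab_normalizes M i (h.QT hx)) v).1 hv) hv h1
    calc x * v = x * v * x⁻¹ * x := by group
      _ = v * x := by rw [h2]
  -- the homomorphism `A → F`
  let φ : A →* Multiplicative F :=
    { toFun := fun a => Multiplicative.ofAdd (b a)
      map_one' := by
        have := hmul 1 (one_mem _) 1 (one_mem _)
        rw [mul_one] at this
        have h0 : b 1 = 0 := by simpa using this
        change Multiplicative.ofAdd (b ((1 : A) : G)) = 1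
        rw [OneMemClass.coe_one, h0]
        rfl
      map_mul' := fun a c => by
        change Multiplicative.ofAdd (b ((a * c : A) : G)) = _
        rw [Subgroup.coe_mul, hmul _ (hA a.2) _ (hA c.2)]
        rfl }
  have hk : φ.ker.map A.subtype ≤ A ⊓ centralizer (fac M i : Set G) := by
    rintro _ ⟨a, ha, rfl⟩
    refine mem_inf.2 ⟨a.2, ?_⟩
    rw [mem_centralizer_iff]
    intro v hv
    exact (hker _ (hA a.2) (Multiplicative.ofAdd.injective (MonoidHom.mem_ker.1 ha)) v hv).symm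
  have hsurj : Function.Surjective φ := by
    have h1 : Nat.card φ.ker ≤ Nat.card ↥(A ⊓ centralizer (fac M i : Set G)) := by
      rw [← Subgroup.card_map_of_injective (K := φ.ker) A.subtype_injective]
      exact Nat.card_le_card_of_injective _ (inclusion_injective hk)
    have h2 : Nat.card φ.range * Nat.card φ.ker = Nat.card A := by
      rw [mul_comm, ← Subgroup.card_mul_index φ.ker, Subgroup.index_ker]
    have h3 : Nat.card F ≤ Nat.card φ.range := by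
      have hpos : 0 < Nat.card φ.ker := Nat.card_pos
      have h4 : Nat.card F * Nat.card φ.ker ≤ Nat.card φ.range * Nat.card φ.ker := by
        rw [h2]
        exact (Nat.mul_le_mul_left _ h1).trans hc
      exact Nat.le_of_mul_le_mul_right h4 hpos
    have h4 : φ.range = ⊤ := Subgroup.eq_top_of_le_card _ (by
      have : Nat.card (Multiplicative F) = Nat.card F := Nat.card_congr Multiplicative.toAdd
      rw [this]
      exact h3)
    exact MonoidHom.range_eq_top.1 h4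
  intro x hx
  obtain ⟨⟨w, hw⟩, hwx⟩ := hsurj (Multiplicative.ofAdd (- b x))
  have hwx' : b w = - b x := Multiplicative.ofAdd.injective hwx
  refine ⟨w, hw, hker _ (mul_mem hx (hA hw)) ?_⟩
  rw [hmul x hx w (hA hw), hwx', add_neg_cancel]

/-- `C_{V_i}(x) ≤ R` for `x ∈ Q_R` moving `V_i`. -/
theorem mem_line_of_comm (h : BOne M i) {x : G} (hx : x ∈ o2 (normalizer (line M i : Set G)))
    (hne : ∃ v ∈ fac M i, v * x ≠ x * v) {v : G} (hv : v ∈ fac M i) (hc : v * x = x * v) : v ∈ line M i := by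
  obtain ⟨b, hb⟩ := h.o2_up hx
  have hxn := stab_normalizes M i (h.QT hx)
  have hb0 : b ≠ 0 := by
    rintro rfl
    obtain ⟨u, hu, hux⟩ := hne
    apply hux
    have h1 : x * u * x⁻¹ = u := by
      refine ext_fac M ((mem_normalizer_iff.1 hxn u).1 hu) hu ?_
      rw [hb u hu, up_zero, NatPair.ap_one]
    calc u * x = x * u * x⁻¹ * x := by rw [h1]
      _ = x * u := by group
  rw [mem_line]
  refine ⟨hv, ?_⟩
  have h1 := hb v hv
  rw [← hc, mul_inv_cancel_right] at h1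
  have h2 := congrFun h1 0
  rw [NatPair.ap_zero', up_00, up_01, one_mul] at h2
  have h3 : b * M.e v i 1 = 0 := by
    have := h2.symm
    simpa using this
  exact (mul_eq_zero.1 h3).resolve_left hb0

/-- `fac M' i'` is a partner of `fac M i`. -/
theorem ptn_of_pair (h : BOne M i) (h' : BOne M' i') (hl : line M i = line M' i')
    (hq : Nat.card F' = Nat.card F) (hne : ∃ v ∈ fac M i, ∃ w ∈ fac M' i', v * w ≠ w * v) :
    Ptn (fac M i) (line M i) (fac M' i') := by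
  obtain ⟨v0, hv0, w0, hw0, h0⟩ := hne
  have hVQ := h.fac_le_o2
  have hWQ := h'.fac_le_o2
  rw [← hl] at hWQ
  have hVQ' : fac M i ≤ o2 (normalizer (line M' i' : Set G)) := by rw [← hl]; exact hVQ
  have hWQ' : fac M' i' ≤ o2 (normalizer (line M' i' : Set G)) := h'.fac_le_o2
  -- an element of `V_i` outside of `R` moves `w0`, and conversely
  have k1 : ∀ v ∈ fac M i, v * w0 = w0 * v → v ∈ line M i := fun v hv hc =>
    mem_line_of_comm h (hWQ hw0) ⟨v0, hv0, h0⟩ hv hc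
  have k2 : ∀ w ∈ fac M' i', w * v0 = v0 * w → w ∈ line M' i' := fun w hw hc =>
    mem_line_of_comm h' (hVQ' hv0) ⟨w0, hw0, Ne.symm h0⟩ hw hc
  refine ⟨?_, ?_, ?_, ?_⟩
  · rw [hl]
    exact h'.fac_le_KR
  · refine act_of_card h hWQ ?_
    have h1 : fac M' i' ⊓ centralizer (fac M i : Set G) ≤ line M' i' := by
      rintro w ⟨hw, hwc⟩
      exact k2 w hw (mem_centralizer_iff.1 hwc v0 hv0).symm
    have h2 : Nat.card ↥(fac M' i' ⊓ centralizer (fac M i : Set G)) ≤ Nat.card (line M' i') :=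
      Nat.card_le_card_of_injective _ (inclusion_injective h1)
    rw [card_line] at h2
    rw [card_fac, pow_two]
    exact Nat.mul_le_mul hq.ge h2
  · have h1 := act_of_card h' hVQ' (by
      have h1 : fac M i ⊓ centralizer (fac M' i' : Set G) ≤ line M i := by
        rintro w ⟨hw, hwc⟩
        exact k1 w hw (mem_centralizer_iff.1 hwc w0 hw0).symm
      have h2 : Nat.card ↥(fac M i ⊓ centralizer (fac M' i' : Set G)) ≤ Nat.card (line M i) :=
        Nat.card_le_card_of_injective _ (inclusion_injective h1)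
      rw [card_line] at h2
      rw [card_fac, pow_two]
      exact Nat.mul_le_mul hq.le h2)
    rw [← hl] at h1
    exact h1
  · intro v hv hvR r hr
    refine h'.line_le_comm (hVQ' hv) ⟨w0, hw0, fun hc => hvR (k1 v hv hc.symm)⟩ ?_
    rw [← hl]
    exact hr

end pair


/-! ### The frame -/

section frame

variable {G : Type u} [Group G] [Finite G] {F : Type} [Field F] [Finite F] [CharP F 2]
  {S : Sylow 2 G} {P : Subgroup G} {k : ℕ}

abbrev QR (R : Subgroup G) : Subgroup G := o2 (normalizer (R : Set G))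

abbrev UR (R : Subgroup G) : Subgroup G := QR R ⊓ centralizer (QR R : Set G)

theorem part_le_of {F : Type} [Field F] {S P : Subgroup G} (M : NatK F S P (zl S P) ⊥ k) {X : Subgroup G}
    {I : Set (Fin k)} (h : ∀ m ∈ I, fac M m ≤ X) : part M I ≤ X := by
  classical
  suffices key : ∀ J : Finset (Fin k), (∀ m ∈ J, fac M m ≤ X) → part M (J : Set (Fin k)) ≤ X by
    have h1 := key I.toFinite.toFinset (fun m hm => h m (by simpa using hm))
    rwa [Set.Finite.coe_toFinset] at h1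
  intro J
  induction J using Finset.induction_on with
  | empty =>
    intro _
    rw [Finset.coe_empty, part_empty]
    exact bot_le
  | insert m J hm ih =>
    intro hJ v hv
    obtain ⟨a, ha, h1, h2⟩ := exists_component M hv.1 m
    have h3 : a⁻¹ * v ∈ part M (J : Set (Fin k)) := by
      refine ⟨h2.1, fun j hj => ?_⟩
      by_cases hjm : j = m
      · rw [hjm]
        exact h2.2 m (by simp)
      · rw [M.mul _ (inv_mem ha.1) _ hv.1, e_inv M ha.1, Pi.add_apply, Pi.neg_apply, ha.2 j hjm,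
          hv.2 j (by simpa [hjm] using hj), neg_zero, add_zero]
    have h4 := mul_mem (hJ m (Finset.mem_insert_self _ _) ha)
      (ih (fun m' hm' => hJ m' (Finset.mem_insert_of_mem hm')) h3)
    rwa [mul_inv_cancel_left] at h4

theorem zl_le_of {F : Type} [Field F] {S P : Subgroup G} (M : NatK F S P (zl S P) ⊥ k) {X : Subgroup G}
    (h : ∀ m, fac M m ≤ X) : zl S P ≤ X := by
  rw [← part_univ M]
  exact part_le_of M fun m _ => h m

/-- All lines of all factors have partners. -/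
structure Cx (M : NatK F (S : Subgroup G) P (zl (S : Subgroup G) P) ⊥ k) : Prop where
  c2T : IsCharacteristicTwoType G
  par : IsParS (S : Subgroup G) P
  cc : CC M
  ptn : ∀ j, ∀ R ∈ lns M j, ∃ W, Ptn (fac M j) R W

theorem Cx.of_ptn {M : NatK F (S : Subgroup G) P (zl (S : Subgroup G) P) ⊥ k} (hc : IsCharacteristicTwoType G)
    (hP : IsParS (S : Subgroup G) P) (hC : CC M) {i : Fin k} {W : Subgroup G} (hW : Ptn (fac M i) (line M i) W) :
    Cx M where
  c2T := hc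
  par := hP
  cc := hC
  ptn := by
    rintro j _ ⟨l, hl, rfl⟩
    have hSP : (S : Subgroup G) ≤ P := hP.isLoc.le
    obtain ⟨s, hs, h1⟩ := exists_trans M hSP i j
    have h2 : cj s (line M i) = line M j := by
      rw [conj_line M hSP hs]
      congr 1
      rw [sg_eq_iff]
      exact h1
    have h3 : cj l (fac M j) = fac M j := mem_normalizer_iff_cj.1 (grp_normalizes M {j} {j} hl)
    refine ⟨cj l (cj s W), ?_⟩
    have h4 := (hW.conj s).conj l
    rwa [h1, h2, h3] at h4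

namespace Cx

variable {M : NatK F (S : Subgroup G) P (zl (S : Subgroup G) P) ⊥ k} (h : Cx M)
include h

theorem one (j : Fin k) : BOne M j := BOne.of h.c2T h.par h.cc j

theorem le : (S : Subgroup G) ≤ P := h.par.isLoc.le

omit [Finite F] [CharP F 2] h [Finite G] in
theorem cj_fac {j : Fin k} {l : G} (hl : l ∈ grp M {j}) (m : Fin k) : cj l (fac M m) = fac M m :=
  mem_normalizer_iff_cj.1 (grp_normalizes M {j} {m} hl)

theorem QR_le {j : Fin k} {R : Subgroup G} (hR : R ∈ lns M j) : QR R ≤ P := by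
  obtain ⟨l, hl, rfl⟩ := hR
  rw [QR, ← cj_o2N]
  refine (cj_mono l ((h.one j).QT.trans ((stab_le M j).trans h.le))).trans ?_
  rw [mem_normalizer_iff_cj.1 (le_normalizer (grp_le M _ hl))]

theorem QR_cent {j m : Fin k} (hm : m ≠ j) {R : Subgroup G} (hR : R ∈ lns M j) :
    QR R ≤ centralizer (fac M m : Set G) := by
  obtain ⟨l, hl, rfl⟩ := hR
  rw [QR, ← cj_o2N, ← cj_fac hl m, ← cj_centralizer]
  apply cj_mono
  rw [le_centralizer_iff]
  exact h.cc j m hm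

theorem QR_centR {j : Fin k} {R : Subgroup G} (hR : R ∈ lns M j) : QR R ≤ centralizer (R : Set G) := by
  obtain ⟨l, hl, rfl⟩ := hR
  rw [QR, ← cj_o2N, ← cj_centralizer]
  exact cj_mono l (h.one j).o2_cent_line

theorem fac_le_QR {j : Fin k} {R : Subgroup G} (hR : R ∈ lns M j) (m : Fin k) : fac M m ≤ QR R := by
  obtain ⟨l, hl, rfl⟩ := hR
  rw [QR, ← cj_o2N, ← cj_fac hl m]
  exact cj_mono l ((h.one j).all_le m)

theorem V_le_QR {j : Fin k} {R : Subgroup G} (hR : R ∈ lns M j) : zl (S : Subgroup G) P ≤ QR R :=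
  zl_le_of M fun m => h.fac_le_QR hR m

/-- `Q_R` centralises `V^j`. -/
theorem QR_comm {j : Fin k} {R : Subgroup G} (hR : R ∈ lns M j) {x v : G} (hx : x ∈ QR R)
    (hv : v ∈ part M {j}ᶜ) : x * v = v * x := by
  have h1 : part M {j}ᶜ ≤ centralizer (QR R : Set G) := by
    refine part_le_of M fun m hm => ?_
    rw [le_centralizer_iff]
    exact h.QR_cent (by simpa using hm) hR
  exact mem_centralizer_iff.1 (h1 hv) x hx

theorem comm_mem {j : Fin k} {R : Subgroup G} (hR : R ∈ lns M j) {x v : G} (hx : x ∈ QR R)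
    (hv : v ∈ fac M j) : x * v * x⁻¹ * v⁻¹ ∈ R := by
  obtain ⟨l, hl, rfl⟩ := hR
  rw [QR, ← cj_o2N, mem_cj] at hx
  rw [← cj_fac hl j, mem_cj] at hv
  have h1 := (h.one j).comm_fac _ hv _ hx
  rw [mem_cj]
  have e : l⁻¹ * (x * v * x⁻¹ * v⁻¹) * l =
      l⁻¹ * x * l * (l⁻¹ * v * l) * (l⁻¹ * x * l)⁻¹ * (l⁻¹ * v * l)⁻¹ := by group
  rw [e]
  exact h1

theorem R_ne {j : Fin k} {R : Subgroup G} (hR : R ∈ lns M j) : R ≠ ⊥ := by
  obtain ⟨l, hl, rfl⟩ := hR
  intro h1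
  apply line_ne_bot (M := M) j
  rw [← cj_inv_cj l (line M j), h1]
  exact Subgroup.map_bot _

theorem card_R {j : Fin k} {R : Subgroup G} (hR : R ∈ lns M j) : Nat.card R = Nat.card F := by
  obtain ⟨l, hl, rfl⟩ := hR
  rw [card_cj, card_line]

theorem KR_le_QR {j : Fin k} {R : Subgroup G} (hR : R ∈ lns M j) : KR R ≤ QR R :=
  KR_le_o2 h.c2T (h.R_ne hR) fun _ hx => sq M (fac_le M j (lns_le hR hx))

theorem V_le_KR {j : Fin k} {R : Subgroup G} (hR : R ∈ lns M j) : zl (S : Subgroup G) P ≤ KR R := by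
  refine zl_le_of M fun m v hv => ?_
  rw [mem_KR]
  refine ⟨?_, fun x hx => ?_⟩
  · rw [mem_centralizer_iff]
    intro r hr
    exact comm M (fac_le M j (lns_le hR hr)) (fac_le M m hv)
  · by_cases hm : m = j
    · subst hm
      have h1 := h.comm_mem hR hx hv
      have e : v * x * v⁻¹ * x⁻¹ = (x * v * x⁻¹ * v⁻¹)⁻¹ := by group
      rw [e]
      exact inv_mem h1
    · have h1 := mem_centralizer_iff.1 (h.QR_cent hm hR hx) v hv
      rw [h1, mul_inv_cancel_right, mul_inv_cancel]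
      exact one_mem _

theorem comm_V {j : Fin k} {R : Subgroup G} (hR : R ∈ lns M j) {x v : G} (hx : x ∈ QR R)
    (hv : v ∈ zl (S : Subgroup G) P) : x * v * x⁻¹ * v⁻¹ ∈ R := by
  have h1 := (mem_KR.1 (h.V_le_KR hR hv)).2 x hx
  have e : x * v * x⁻¹ * v⁻¹ = (v * x * v⁻¹ * x⁻¹)⁻¹ := by group
  rw [e]
  exact inv_mem h1

/-! #### `Q = O₂(P)` -/

theorem o2S : o2 P ≤ (S : Subgroup G) :=
  MinSimple.VModule.o2_le_of_sylow S.isPGroup' (MinSimple.Basic.not_dvd_relIndex S h.le)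

theorem cent_Q : centralizer (o2 P : Set G) ≤ o2 P := by
  have h1 : o2 P ≠ ⊥ := h.par.isLoc.o2_ne
  have h2 : o2 (normalizer (o2 P : Set G)) = o2 P := by
    apply le_antisymm
    · have h3 : (S : Subgroup G) ≤ normalizer (o2 P : Set G) := h.le.trans (ZN.le_normalizer_o2 P)
      have h4 : o2 (normalizer (o2 P : Set G)) ≤ P :=
        (MinSimple.VModule.o2_le_of_sylow S.isPGroup' (MinSimple.Basic.not_dvd_relIndex S h3)).trans h.le
      exact ZN.le_o2 h4 (o2_isPGroup _) ((ZN.le_normalizer_o2 P).trans (ZN.le_normalizer_o2 _))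
    · exact ZN.le_o2 le_normalizer (o2_isPGroup P) le_rfl
  have h3 := MinSimple.Basic.char2_normalizer h.c2T (o2_isPGroup P) h1
  rw [h2] at h3
  exact fun x hx => h3 ⟨centralizer_le_normalizer _ hx, hx⟩

theorem Q_cent : o2 P ≤ centralizer (zl (S : Subgroup G) P : Set G) :=
  MinSimple.VModule.o2_le_centralizer_zl h.le S.isPGroup' (MinSimple.Basic.not_dvd_relIndex S h.le)
    (inf_le_right.trans h.cent_Q)

theorem V_le_Q : zl (S : Subgroup G) P ≤ o2 P := by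
  refine le_trans ?_ h.cent_Q
  rw [le_centralizer_iff]
  exact h.Q_cent

theorem le_Q {N : Subgroup G} (h2 : IsPGroup 2 N) (hN : N ≤ centralizer (zl (S : Subgroup G) P : Set G))
    (hn : centralizer (zl (S : Subgroup G) P : Set G) ≤ normalizer (N : Set G)) : N ≤ o2 P := by
  set C := centralizer (zl (S : Subgroup G) P : Set G) with hC
  have h1 : N ≤ o2 C := ZN.le_o2 hN h2 hn
  have h3 : P ≤ normalizer (o2 C : Set G) := by
    intro g hg
    rw [mem_normalizer_iff_cj, cj_o2]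
    congr 1
    rw [hC, cj_centralizer, mem_normalizer_iff_cj.1 (MinSimple.VModule.le_normalizer_zl _ _ hg)]
  have h4 : o2 C ≤ (S : Subgroup G) := le_of_le_normalizer S (o2_isPGroup _) (h.le.trans h3)
  exact h1.trans (ZN.le_o2 (h4.trans h.le) (o2_isPGroup _) h3)

theorem centV_le {j : Fin k} {R : Subgroup G} (hR : R ∈ lns M j) :
    centralizer (zl (S : Subgroup G) P : Set G) ≤ normalizer (R : Set G) :=
  (centralizer_le ((lns_le hR).trans (fac_le M j))).trans (centralizer_le_normalizer _)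

theorem QRc_le_Q {j : Fin k} {R : Subgroup G} (hR : R ∈ lns M j) :
    QR R ⊓ centralizer (zl (S : Subgroup G) P : Set G) ≤ o2 P := by
  refine h.le_Q ((o2_isPGroup _).to_le inf_le_left) inf_le_right ?_
  exact Half.le_normalizer_inf ((h.centV_le hR).trans (ZN.le_normalizer_o2 _)) le_normalizer

theorem UR_le_Q {j : Fin k} {R : Subgroup G} (hR : R ∈ lns M j) : UR R ≤ o2 P :=
  (inf_le_inf_left _ (centralizer_le (h.V_le_QR hR))).trans (h.QRc_le_Q hR)

/-- (F) -/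
theorem F_of {j m : Fin k} (hjm : m ≠ j) {R R' : Subgroup G} (hR : R ∈ lns M j) (hR' : R' ∈ lns M m) {y : G}
    (hy : y ∈ UR R') (hyc : ∀ u ∈ UR R, y * u = u * y) : y ∈ QR R := by
  set C := centralizer (UR R : Set G) with hC
  have hRU : R ≤ UR R := by
    refine le_inf (((lns_le hR).trans (fac_le M j)).trans (h.V_le_QR hR)) ?_
    rw [le_centralizer_iff]
    exact h.QR_centR hR
  have hmU : fac M m ≤ UR R := by
    refine le_inf (h.fac_le_QR hR m) ?_
    rw [le_centralizer_iff]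
    exact h.QR_cent hjm hR
  have hCH : C ≤ normalizer (R : Set G) := (centralizer_le hRU).trans (centralizer_le_normalizer _)
  have hCH' : C ≤ normalizer (R' : Set G) :=
    (centralizer_le ((lns_le hR').trans hmU)).trans (centralizer_le_normalizer _)
  have hnQ : ∀ {R : Subgroup G}, normalizer (R : Set G) ≤ normalizer (QR R : Set G) := fun {R} =>
    ZN.le_normalizer_o2 _
  have hnC : ∀ X : Subgroup G, normalizer (X : Set G) ≤ normalizer (centralizer (X : Set G) : Set G) := by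
    intro X g hg
    rw [mem_normalizer_iff_cj, cj_centralizer, mem_normalizer_iff_cj.1 hg]
  have hnU : ∀ {R : Subgroup G}, normalizer (R : Set G) ≤ normalizer (UR R : Set G) := fun {R} =>
    Half.le_normalizer_inf hnQ (hnQ.trans (hnC _))
  have h1 : UR R' ⊓ C ≤ o2 C := by
    refine ZN.le_o2 inf_le_right ((o2_isPGroup _).to_le (inf_le_left.trans inf_le_left)) ?_
    exact Half.le_normalizer_inf (hCH'.trans hnU) le_normalizer
  have h2 : o2 C ≤ QR R := by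
    refine ZN.le_o2 ((ZN.o2_le C).trans hCH) (o2_isPGroup _) ?_
    intro g hg
    rw [mem_normalizer_iff_cj, cj_o2]
    congr 1
    exact mem_normalizer_iff_cj.1 (hnC _ (hnU hg))
  refine h2 (h1 (mem_inf.2 ⟨hy, ?_⟩))
  rw [hC, mem_centralizer_iff]
  intro u hu
  exact (hyc u hu).symm

/-- `V_j = R R'` -/
theorem exists_mul {j : Fin k} {R R' : Subgroup G} (hR : R ∈ lns M j) (hR' : R' ∈ lns M j) (hne : R ≠ R') {v : G}
    (hv : v ∈ fac M j) : ∃ r ∈ R, ∃ r' ∈ R', v = r * r' := by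
  have hc : ∀ x ∈ R, ∀ y ∈ R', x * y = y * x := fun x hx y hy =>
    comm M (fac_le M j (lns_le hR hx)) (fac_le M j (lns_le hR' hy))
  let f : R × R' → fac M j := fun p => ⟨p.1 * p.2, mul_mem (lns_le hR p.1.2) (lns_le hR' p.2.2)⟩
  have hf : Function.Injective f := by
    rintro ⟨⟨a, ha⟩, ⟨b, hb⟩⟩ ⟨⟨a', ha'⟩, ⟨b', hb'⟩⟩ hab
    have h1 : a * b = a' * b' := congrArg Subtype.val hab
    have h2 : a'⁻¹ * a = b' * b⁻¹ := by
      rw [inv_mul_eq_iff_eq_mul, ← mul_assoc, ← h1, mul_inv_cancel_right]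
    have h3 : a'⁻¹ * a = 1 := lns_inf hR hR' hne (mul_mem (inv_mem ha') ha) (by
      rw [h2]; exact mul_mem hb' (inv_mem hb))
    have h4 : a' = a := inv_mul_eq_one.1 h3
    subst h4
    have h5 : b = b' := mul_left_cancel h1
    subst h5
    rfl
  have hcard : Nat.card (R × R') = Nat.card (fac M j) := by
    rw [Nat.card_prod, h.card_R hR, h.card_R hR', card_fac, pow_two]
  have hs : Function.Surjective f := ((Nat.bijective_iff_injective_and_card f).2 ⟨hf, hcard⟩).2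
  obtain ⟨⟨⟨a, ha⟩, ⟨b, hb⟩⟩, hab⟩ := hs ⟨v, hv⟩
  exact ⟨a, ha, b, hb, (congrArg Subtype.val hab).symm⟩

/-- The component in `V_j` of an element of `V` commuting with `K_R`, `R ≤ V_j`, lies in `R`. -/
theorem comp_mem {j : Fin k} {R : Subgroup G} (hR : R ∈ lns M j) {v a : G}
    (hc : ∀ w ∈ KR R, w * v = v * w) (ha : a ∈ fac M j) (hav : a⁻¹ * v ∈ part M {j}ᶜ) : a ∈ R := by
  by_contra haR
  obtain ⟨W, hW⟩ := h.ptn j R hR
  apply h.R_ne hR
  rw [eq_bot_iff_forall]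
  intro r hr
  obtain ⟨w, hw, h1⟩ := hW.full a ha haR r hr
  have hwK := hW.WK hw
  have h2 := h.QR_comm hR (h.KR_le_QR hR hwK) hav
  have h3 := hc w hwK
  have h4 : w * a = a * w := by
    have e : a = v * (a⁻¹ * v)⁻¹ := by group
    have h5 : w * (a⁻¹ * v)⁻¹ = (a⁻¹ * v)⁻¹ * w := by
      rw [eq_inv_mul_iff_mul_eq, ← mul_assoc, ← h2, mul_inv_cancel_right]
    calc w * a = w * v * (a⁻¹ * v)⁻¹ := by rw [mul_assoc, ← e]
      _ = v * (w * (a⁻¹ * v)⁻¹) := by rw [h3, mul_assoc]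
      _ = v * (a⁻¹ * v)⁻¹ * w := by rw [h5, mul_assoc]
      _ = a * w := by rw [← e]
  rw [← h1, h4, mul_inv_cancel_right, mul_inv_cancel]

/-- The full root group, on `V`. -/
theorem full_V {j : Fin k} {R : Subgroup G} (hR : R ∈ lns M j) {v a : G} (ha : a ∈ fac M j) (haR : a ∉ R)
    (hav : a⁻¹ * v ∈ part M {j}ᶜ) {r : G} (hr : r ∈ R) : ∃ w ∈ KR R, w * v * w⁻¹ * v⁻¹ = r := by
  obtain ⟨W, hW⟩ := h.ptn j R hR
  obtain ⟨w, hw, h1⟩ := hW.full a ha haR r hr
  have hwK := hW.WK hw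
  have h2 := h.QR_comm hR (h.KR_le_QR hR hwK) hav
  refine ⟨w, hwK, ?_⟩
  rw [← h1]
  have e : v = a * (a⁻¹ * v) := by group
  have e2 : w * (a⁻¹ * v) * w⁻¹ = a⁻¹ * v := by rw [h2]; group
  calc w * v * w⁻¹ * v⁻¹ = w * a * w⁻¹ * (w * (a⁻¹ * v) * w⁻¹) * v⁻¹ := by group
    _ = w * a * w⁻¹ * (a⁻¹ * v) * v⁻¹ := by rw [e2]
    _ = w * a * w⁻¹ * a⁻¹ := by group

/-- The elements of `Q_R` act on `V_j` as elements of `SL₂(F)`. -/
theorem exists_same {j : Fin k} {R : Subgroup G} (hR : R ∈ lns M j) {x : G} (hx : x ∈ QR R) :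
    ∃ g ∈ grp M {j}, ∀ v ∈ fac M j, x * v * x⁻¹ = g * v * g⁻¹ := by
  obtain ⟨l, hl, rfl⟩ := hR
  rw [QR, ← cj_o2N, mem_cj] at hx
  obtain ⟨b, hb⟩ := (h.one j).o2_up hx
  obtain ⟨g, hg, hgb⟩ := exists_lift M j (up b)
  refine ⟨l * g * l⁻¹, mul_mem (mul_mem hl hg) (inv_mem hl), fun v hv => ?_⟩
  have hv' : l⁻¹ * v * l ∈ fac M j := by
    have := grp_conj_fac (inv_mem hl) hv
    rwa [inv_inv] at this
  have h1 : l⁻¹ * x * l * (l⁻¹ * v * l) * (l⁻¹ * x * l)⁻¹ = g * (l⁻¹ * v * l) * g⁻¹ := by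
    refine ext_fac M ((mem_normalizer_iff.1 (stab_normalizes M j ((h.one j).QT hx)) _).1 hv')
      (grp_conj_fac hg hv') ?_
    rw [hb _ hv', hgb _ (fac_le M j hv')]
  calc x * v * x⁻¹ = l * (l⁻¹ * x * l * (l⁻¹ * v * l) * (l⁻¹ * x * l)⁻¹) * l⁻¹ := by group
    _ = l * (g * (l⁻¹ * v * l) * g⁻¹) * l⁻¹ := by rw [h1]
    _ = l * g * l⁻¹ * v * (l * g * l⁻¹)⁻¹ := by group

theorem cj_lns' {j : Fin k} {R R' : Subgroup G} (hR : R ∈ lns M j) (hR' : R' ∈ lns M j) {x : G} (hx : x ∈ QR R) :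
    cj x R' ∈ lns M j := by
  obtain ⟨g, hg, h1⟩ := h.exists_same hR hx
  have h2 : cj x R' = cj g R' := by
    have key : ∀ x g : G, (∀ v ∈ fac M j, x * v * x⁻¹ = g * v * g⁻¹) → cj x R' ≤ cj g R' := by
      intro x g h1 y hy
      rw [mem_cj] at hy
      have h3 := h1 _ (lns_le hR' hy)
      have e : x * (x⁻¹ * y * x) * x⁻¹ = y := by group
      rw [e] at h3
      rw [mem_cj, h3]
      have e2 : g⁻¹ * (g * (x⁻¹ * y * x) * g⁻¹) * g = x⁻¹ * y * x := by group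
      rwa [e2]
    exact le_antisymm (key x g h1) (key g x fun v hv => (h1 v hv).symm)
  rw [h2]
  exact cj_mem_lns hR' hg

/-- `⟨K_R, K_{R'}⟩` is transitive on the lines: an element commuting with `K_R` and `K_{R'}` commutes with all
`K_{R''}`. -/
theorem comm_all {j : Fin k} {R R' : Subgroup G} (hR : R ∈ lns M j) (hR' : R' ∈ lns M j) (hne : R ≠ R') {c : G}
    (h1 : ∀ w ∈ KR R, c * w = w * c) (h2 : ∀ w ∈ KR R', c * w = w * c) :
    ∀ R'' ∈ lns M j, ∀ w ∈ KR R'', c * w = w * c := by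
  intro R'' hR'' w hw
  by_cases he : R'' = R
  · rw [he] at hw
    exact h1 w hw
  obtain ⟨v, hv, hv1⟩ := (Subgroup.bot_or_exists_ne_one R'').resolve_left (h.R_ne hR'')
  obtain ⟨r, hr, r', hr', hvr⟩ := h.exists_mul hR hR' hne (lns_le hR'' hv)
  have hr'R : r' ∉ R := by
    intro h3
    have h4 : r' = 1 := lns_inf hR hR' hne h3 hr'
    apply hv1
    rw [hvr, h4, mul_one] at hv ⊢
    exact lns_inf hR hR'' (Ne.symm he) hr hv
  obtain ⟨W, hW⟩ := h.ptn j R hR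
  obtain ⟨x, hx, hxr⟩ := hW.full r' (lns_le hR' hr') hr'R r hr
  have hxK := hW.WK hx
  have hxv : x * r' * x⁻¹ = v := by
    rw [hvr, ← hxr, inv_mul_cancel_right]
  have h3 : cj x R' ∈ lns M j := h.cj_lns' hR hR' (h.KR_le_QR hR hxK)
  have h4 : cj x R' = R'' := by
    by_contra hne'
    refine hv1 (lns_inf h3 hR'' hne' ?_ hv)
    rw [mem_cj, ← hxv]
    have e : x⁻¹ * (x * r' * x⁻¹) * x = r' := by group
    rwa [e]
  rw [← h4, ← cj_KR, mem_cj] at hw
  have h5 := h2 _ hw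
  have h6 := h1 x hxK
  have h7 : c * x⁻¹ = x⁻¹ * c := by
    rw [eq_inv_mul_iff_mul_eq, ← mul_assoc, ← h6, mul_inv_cancel_right]
  calc c * w = c * x * (x⁻¹ * w * x) * x⁻¹ := by group
    _ = x * (c * (x⁻¹ * w * x)) * x⁻¹ := by rw [h6]; group
    _ = x * (x⁻¹ * w * x) * (c * x⁻¹) := by rw [h5]; group
    _ = w * c := by rw [h7]; group

/-- **(CU)** -/
theorem cu {j : Fin k} {y : G} (hyQ : ∀ x ∈ o2 P, y * x = x * y) (hy : ∀ R ∈ lns M j, y ∈ QR R) :
    ∃ e ∈ fac M j, ∀ R ∈ lns M j, ∀ w ∈ KR R, y * e * w = w * (y * e) := by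
  have hR := line_mem_lns (M := M) j
  obtain ⟨R', hR', hne, -⟩ := exists_third_lns hR hR
  set R := line M j with hRd
  -- one line
  have key : ∀ {R : Subgroup G}, R ∈ lns M j → ∃ e ∈ fac M j, ∀ r ∈ R, ∀ w ∈ KR R,
      y * (e * r) * w = w * (y * (e * r)) := by
    intro R hR
    obtain ⟨W, hW⟩ := h.ptn j R hR
    obtain ⟨e, he, h1⟩ := hW.onW y (hy R hR)
    refine ⟨e, he, fun r hr => ?_⟩
    have h2 : ∀ w ∈ W, y * (e * r) * w = w * (y * (e * r)) := by
      intro w hw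
      have h3 := mem_centralizer_iff.1 (mem_KR.1 (hW.WK hw)).1 r hr
      calc y * (e * r) * w = y * e * (r * w) := by group
        _ = y * e * w * r := by rw [h3]; group
        _ = w * (y * (e * r)) := by rw [h1 w hw]; group
    intro w hw
    obtain ⟨w0, hw0, h4⟩ := hW.onV w (h.KR_le_QR hR hw)
    have h5 : w * w0 ∈ o2 P := by
      apply h.QRc_le_Q hR
      have h6 : w * w0 ∈ QR R := mul_mem (h.KR_le_QR hR hw) (h.KR_le_QR hR (hW.WK hw0))
      refine mem_inf.2 ⟨h6, ?_⟩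
      have h7 : zl (S : Subgroup G) P ≤ centralizer ({w * w0} : Set G) := by
        refine zl_le_of M fun m => ?_
        intro v hv
        rw [mem_centralizer_singleton_iff]
        by_cases hm : m = j
        · subst hm
          exact (h4 v hv).symm
        · exact mem_centralizer_iff.1 (h.QR_cent hm hR h6) v hv
      rw [mem_centralizer_iff]
      intro v hv
      exact mem_centralizer_singleton_iff.1 (h7 hv)
    have h8 : y * (e * r) * (w * w0) = w * w0 * (y * (e * r)) := by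
      have h9 : e * r * (w * w0) = w * w0 * (e * r) :=
        mem_centralizer_iff.1 (h.Q_cent h5) _ (fac_le M j (mul_mem he (lns_le hR hr)))
      calc y * (e * r) * (w * w0) = y * (e * r * (w * w0)) := by group
        _ = y * (w * w0) * (e * r) := by rw [h9]; group
        _ = w * w0 * (y * (e * r)) := by rw [hyQ _ h5]; group
    have h10 := h2 w0 hw0
    calc y * (e * r) * w = y * (e * r) * (w * w0) * w0⁻¹ := by group
      _ = w * (w0 * (y * (e * r))) * w0⁻¹ := by rw [h8]; group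
      _ = w * (y * (e * r)) := by rw [← h10]; group
  obtain ⟨e, he, h1⟩ := key hR
  obtain ⟨e', he', h2⟩ := key hR'
  obtain ⟨r, hr, r', hr', h3⟩ := h.exists_mul hR hR' (Ne.symm hne) (mul_mem (inv_mem he) he')
  have h4 : e * r = e' * r'⁻¹ := by
    have : e' = e * (r * r') := by rw [← h3, mul_inv_cancel_left]
    rw [this]
    group
  refine ⟨e * r, mul_mem he (lns_le hR hr), ?_⟩
  refine h.comm_all hR hR' (Ne.symm hne) (h1 r hr) ?_
  rw [h4]
  exact h2 _ (inv_mem hr')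

/-- An element of `Z(Q)` commuting with all `K_R` is `1`. -/
theorem eq_one {b : G} (hbQ : ∀ x ∈ o2 P, b * x = x * b) (hb : ∀ j, ∀ R ∈ lns M j, ∀ w ∈ KR R, b * w = w * b) :
    b = 1 := by
  by_contra hb1
  let B : Subgroup G := o2 P ⊓ centralizer (o2 P : Set G) ⊓ ⨅ j, ⨅ R : lns M j, centralizer (KR R.1 : Set G)
  have hmem : ∀ x, x ∈ B ↔ (x ∈ o2 P ∧ x ∈ centralizer (o2 P : Set G)) ∧
      ∀ j, ∀ R ∈ lns M j, ∀ w ∈ KR R, x * w = w * x := by
    intro x
    rw [mem_inf, mem_inf]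
    simp only [mem_iInf]
    constructor
    · rintro ⟨h1, h2⟩
      exact ⟨h1, fun j R hR w hw => (mem_centralizer_iff.1 (h2 j ⟨R, hR⟩) w hw).symm⟩
    · rintro ⟨h1, h2⟩
      exact ⟨h1, fun j R => mem_centralizer_iff.2 fun w hw => (h2 j R.1 R.2 w hw).symm⟩
  have hbc : b ∈ centralizer (o2 P : Set G) := mem_centralizer_iff.2 fun x hx => (hbQ x hx).symm
  have hbB : b ∈ B := (hmem b).2 ⟨⟨h.cent_Q hbc, hbc⟩, hb⟩
  have hBne : B ≠ ⊥ := fun e => hb1 ((eq_bot_iff_forall _).1 e b hbB)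
  have hBS : B ≤ (S : Subgroup G) := fun x hx => h.o2S ((hmem x).1 hx).1.1
  have hSB : (S : Subgroup G) ≤ normalizer (B : Set G) := by
    apply Two.le_normalizer_of
    intro s hs x hx
    obtain ⟨⟨h1, h2⟩, h3⟩ := (hmem x).1 hx
    have hsP := h.le hs
    refine (hmem _).2 ⟨⟨(mem_normalizer_iff.1 (ZN.le_normalizer_o2 P hsP) x).1 h1, ?_⟩, ?_⟩
    · have h4 : s ∈ normalizer (centralizer (o2 P : Set G) : Set G) := by
        rw [mem_normalizer_iff_cj, cj_centralizer, mem_normalizer_iff_cj.1 (ZN.le_normalizer_o2 P hsP)]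
      exact (mem_normalizer_iff.1 h4 x).1 h2
    · intro j R hR w hw
      have h5 : cj s⁻¹ R ∈ lns M (sg M (h.le (inv_mem hs)) j) := cj_lns h.le (inv_mem hs) hR
      have h6 : s⁻¹ * w * s ∈ KR (cj s⁻¹ R) := by
        rw [← cj_KR, mem_cj]
        have e : s⁻¹⁻¹ * (s⁻¹ * w * s) * s⁻¹ = w := by group
        rwa [e]
      have h7 := h3 _ _ h5 _ h6
      calc s * x * s⁻¹ * w = s * (x * (s⁻¹ * w * s)) * s⁻¹ := by group
        _ = s * (s⁻¹ * w * s * x) * s⁻¹ := by rw [h7]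
        _ = w * (s * x * s⁻¹) := by group
  obtain ⟨z, hzB, hz1, hzc⟩ := exists_zc S.isPGroup' hBS hBne hSB
  have hzV : z ∈ zl (S : Subgroup G) P := ZN.ChoiceSit.zc_le_zl _ _ hzc
  apply hz1
  rw [← e_eq_zero M hzV]
  funext j
  obtain ⟨a, ha, h1, h2⟩ := exists_component M hzV j
  have hR := line_mem_lns (M := M) j
  obtain ⟨R', hR', hne, -⟩ := exists_third_lns hR hR
  have h3 : ∀ R ∈ lns M j, a ∈ R := fun R hR =>
    h.comp_mem hR (fun w hw => (((hmem z).1 hzB).2 j R hR w hw).symm) ha h2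
  have h4 : a = 1 := lns_inf hR hR' (Ne.symm hne) (h3 _ hR) (h3 _ hR')
  rw [← h1, h4, e_one]

/-- **(V-)**: `Z(Q_R) ∩ C(Q) ≤ V` for a line `R` of `V_i`, if there is a further factor. -/
theorem hV {i : Fin k} (hk : ∃ j : Fin k, j ≠ i) {y : G} (hy : y ∈ o2 (normalizer (line M i : Set G)))
    (hyc : ∀ x ∈ o2 (normalizer (line M i : Set G)), x * y = y * x) (hyQ : ∀ x ∈ o2 P, x * y = y * x) :
    y ∈ zl (S : Subgroup G) P := by
  have hRi := line_mem_lns (M := M) i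
  -- `V^i` and `Z(Q)`
  have hU : ∀ c, c ∈ QR (line M i) → (∀ x ∈ QR (line M i), x * c = c * x) → (∀ x ∈ o2 P, x * c = c * x) →
      ∀ j, j ≠ i → ∀ R ∈ lns M j, c ∈ QR R := by
    intro c hc hcc hcQ j hj R hR
    refine h.F_of (Ne.symm hj) hR hRi ⟨hc, mem_centralizer_iff.2 hcc⟩ fun u hu => ?_
    exact (hcQ u (h.UR_le_Q hR hu)).symm
  have h1 := hU y hy hyc hyQ
  choose! e he hew using fun (j : Fin k) (hj : j ≠ i) => h.cu (fun x hx => (hyQ x hx).symm) (h1 j hj)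
  classical
  obtain ⟨E, hE, hEe⟩ := M.surj fun j => if j = i then 0 else M.e (e j) j
  have hEi : E ∈ part M {i}ᶜ := ⟨hE, fun j hj => by
    have hj' : j = i := by simpa using hj
    rw [hEe]
    simp [hj']⟩
  have hEj : ∀ j, j ≠ i → (e j)⁻¹ * E ∈ part M {j}ᶜ := by
    intro j hj
    refine ⟨mul_mem (inv_mem (he j hj).1) hE, fun m hm => ?_⟩
    have hm' : m = j := by simpa using hm
    rw [hm', M.mul _ (inv_mem (he j hj).1) _ hE, e_inv M (he j hj).1, Pi.add_apply, Pi.neg_apply, hEe]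
    simp [hj]
  have hEc : ∀ x ∈ QR (line M i), x * E = E * x := fun x hx => h.QR_comm hRi hx hEi
  have hEQ : ∀ x ∈ o2 P, x * E = E * x := fun x hx => (mem_centralizer_iff.1 (h.Q_cent hx) E hE).symm
  -- `c = y E`
  have c1 : y * E ∈ QR (line M i) := mul_mem hy (h.V_le_QR hRi hE)
  have c2 : ∀ x ∈ QR (line M i), x * (y * E) = y * E * x := fun x hx => by
    rw [← mul_assoc, hyc x hx, mul_assoc, hEc x hx, mul_assoc]
  have c3 : ∀ x ∈ o2 P, x * (y * E) = y * E * x := fun x hx => by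
    rw [← mul_assoc, hyQ x hx, mul_assoc, hEQ x hx, mul_assoc]
  have c4 : ∀ j, j ≠ i → ∀ R ∈ lns M j, ∀ w ∈ KR R, y * E * w = w * (y * E) := by
    intro j hj R hR w hw
    have h2 := hew j hj R hR w hw
    have h3 := h.QR_comm hR (h.KR_le_QR hR hw) (hEj j hj)
    calc y * E * w = y * e j * ((e j)⁻¹ * E * w) := by group
      _ = y * e j * w * ((e j)⁻¹ * E) := by rw [← h3]; group
      _ = w * (y * E) := by rw [h2]; group
  have c5 := hU _ c1 c2 c3
  -- `c ∈ U_R` for a line `R` of some `V_j`, `j ≠ i`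
  obtain ⟨j, hj⟩ := hk
  have hR := line_mem_lns (M := M) j
  have c6 : y * E ∈ UR (line M j) := by
    refine mem_inf.2 ⟨c5 j hj _ hR, ?_⟩
    rw [mem_centralizer_iff]
    intro x hx
    obtain ⟨W, hW⟩ := h.ptn j _ hR
    obtain ⟨w0, hw0, h4⟩ := hW.onV x hx
    have h5 : x * w0 ∈ o2 P := by
      apply h.QRc_le_Q hR
      have h6 : x * w0 ∈ QR (line M j) := mul_mem hx (h.KR_le_QR hR (hW.WK hw0))
      refine mem_inf.2 ⟨h6, ?_⟩
      have h7 : zl (S : Subgroup G) P ≤ centralizer ({x * w0} : Set G) := by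
        refine zl_le_of M fun m => ?_
        intro v hv
        rw [mem_centralizer_singleton_iff]
        by_cases hm : m = j
        · subst hm
          exact (h4 v hv).symm
        · exact mem_centralizer_iff.1 (h.QR_cent hm hR h6) v hv
      rw [mem_centralizer_iff]
      intro v hv
      exact mem_centralizer_singleton_iff.1 (h7 hv)
    have h8 := c3 _ h5
    have h9 := c4 j hj _ hR w0 (hW.WK hw0)
    have h10 : x * (w0 * (y * E)) = y * E * x * w0 := by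
      rw [← mul_assoc, h8]
      group
    rw [← h9] at h10
    have h11 : x * (y * E) * w0 = y * E * x * w0 := by rw [← h10]; group
    exact mul_right_cancel h11
  have c7 : ∀ R' ∈ lns M i, y * E ∈ QR R' := fun R' hR' =>
    h.F_of hj hR' hR c6 fun u hu => (c3 u (h.UR_le_Q hR' hu)).symm
  obtain ⟨e1, he1, h12⟩ := h.cu (fun x hx => (c3 x hx).symm) c7
  have h13 : y * E * e1 = 1 := by
    refine h.eq_one (fun x hx => ?_) fun m R hR w hw => ?_
    · have h14 := mem_centralizer_iff.1 (h.Q_cent hx) e1 he1.1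
      calc y * E * e1 * x = y * E * (e1 * x) := by group
        _ = y * E * x * e1 := by rw [h14]; group
        _ = x * (y * E * e1) := by rw [← c3 x hx]; group
    · by_cases hm : m = i
      · subst hm
        exact h12 R hR w hw
      · have h14 := mem_centralizer_iff.1 (h.QR_cent (Ne.symm hm) hR (h.KR_le_QR hR hw)) e1 he1
        calc y * E * e1 * w = y * E * (e1 * w) := by group
          _ = y * E * w * e1 := by rw [h14]; group
          _ = w * (y * E * e1) := by rw [c4 m hm R hR w hw]; group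
  have h14 : y = e1⁻¹ * E⁻¹ := by
    rw [← mul_inv_rev, eq_inv_iff_mul_eq_one, ← mul_assoc]
    exact h13
  rw [h14]
  exact mul_mem (inv_mem he1.1) (inv_mem hE)

end Cx

end frame

end Cfsg.Agent.Omega.IId.BigFour.SylPt

end

section


/-!
# II.d, `BigFour.CaseTwo` (helper873)

`T = stab M i` is a Sylow 2-subgroup of `N_G(line M i)`, for all `q` and all `k ≥ 2`, if all lines have partners
(#19648, #19731).

* `LemTwo M i` : LEMMA 2: `N_G(line M i) ∩ N_G(T)` normalises `V⁻ = {v ∈ V | M.e v i 1 = 0}`;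
* `perm` : it permutes the lines `line M l`, `l ≠ i`;
* `not_dvd` : `T` is a Sylow 2-subgroup of `N_G(line M i)`;
* `lemTwo` : LEMMA 2 (`SylFr`, `Orbit2`);
* `caseTwo` : **`CaseTwo K`**.
-/

set_option autoImplicit false
set_option linter.unusedSectionVars false

namespace Cfsg.Agent.Omega.IId.BigFour.SylFour

open Subgroup Cfsg Cfsg.Agent.ZN.ChoiceBase
open Cfsg.Agent.ZN (o2 zc zl)
open Cfsg.Agent.Omega.MinPar Cfsg.Agent.Omega.FFThm Cfsg.Agent.Omega.Frame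
open Cfsg.Agent.Omega.IId.SideOf (KR mem_KR)
open Cfsg.Agent.Omega.IId.Lns
open Cfsg.Agent.Omega.IId.BigFour.SylPt
open Cfsg.Agent.Omega.IId.BigFour.SylTools (comm_line syl_one)

universe u

section main

variable {G : Type u} [Group G] [Finite G] {F : Type} [Field F] [Finite F] [CharP F 2]
  {S : Sylow 2 G} {P : Subgroup G} {k : ℕ}
  {M : NatK F (S : Subgroup G) P (zl (S : Subgroup G) P) ⊥ k}

/-- The conclusion of LEMMA 2. -/
def LemTwo (M : NatK F (S : Subgroup G) P (zl (S : Subgroup G) P) ⊥ k) (i : Fin k) : Prop :=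
  ∀ t ∈ normalizer (line M i : Set G), t ∈ normalizer (stab M i : Set G) →
    ∀ v ∈ zl (S : Subgroup G) P, M.e v i 1 = 0 →
      t * v * t⁻¹ ∈ zl (S : Subgroup G) P ∧ M.e (t * v * t⁻¹) i 1 = 0

theorem KR_le_stab (h : Cx M) (i l : Fin k) : KR (line M l) ≤ stab M i := by
  have h1 := Qt.qt h.le h.cc l
  have h2 := h.KR_le_QR (line_mem_lns (M := M) l)
  exact le_inf (h2.trans (h1.1.trans (stab_le M l))) (h2.trans (h1.2 i))

theorem perm (h : Cx M) {i : Fin k} (h2 : LemTwo M i) {t : G} (ht : t ∈ normalizer (line M i : Set G))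
    (htT : t ∈ normalizer (stab M i : Set G)) {l : Fin k} (hl : l ≠ i) :
    ∃ m, m ≠ i ∧ cj t (line M l) = line M m := by
  have hR := line_mem_lns (M := M) l
  have hcj : ∀ {x : G} {X : Subgroup G}, x ∈ X → t * x * t⁻¹ ∈ cj t X := fun {x X} hx => by
    rw [mem_cj]
    have e : t⁻¹ * (t * x * t⁻¹) * t = x := by group
    rwa [e]
  refine perm_line (M := M) h.le (A := cj t (KR (line M l))) ?_ ?_ ?_ ?_ ?_ ?_
  · rw [← mem_normalizer_iff_cj.1 htT]
    exact cj_mono t (KR_le_stab h i l)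
  · rw [card_cj, card_line]
  · intro v hv hv0
    obtain ⟨hv', hv0'⟩ := h2 t⁻¹ (inv_mem ht) (inv_mem htT) v hv hv0
    rw [inv_inv] at hv' hv0'
    obtain ⟨a, ha, ha1, ha2⟩ := exists_component M hv' l
    by_cases hal : a ∈ line M l
    · left
      intro x hx
      rw [mem_cj] at hx
      have h3 := mem_centralizer_iff.1 (mem_KR.1 hx).1 a hal
      have h4 := h.QR_comm hR (h.KR_le_QR hR hx) ha2
      have h5 : t⁻¹ * x * t * (t⁻¹ * v * t) = t⁻¹ * v * t * (t⁻¹ * x * t) := by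
        calc t⁻¹ * x * t * (t⁻¹ * v * t) = t⁻¹ * x * t * a * (a⁻¹ * (t⁻¹ * v * t)) := by group
          _ = a * (t⁻¹ * x * t) * (a⁻¹ * (t⁻¹ * v * t)) := by rw [h3]
          _ = a * (t⁻¹ * x * t * (a⁻¹ * (t⁻¹ * v * t))) := by group
          _ = a * (a⁻¹ * (t⁻¹ * v * t) * (t⁻¹ * x * t)) := by rw [h4]
          _ = t⁻¹ * v * t * (t⁻¹ * x * t) := by group
      calc x * v = t * (t⁻¹ * x * t * (t⁻¹ * v * t)) * t⁻¹ := by group
        _ = t * (t⁻¹ * v * t * (t⁻¹ * x * t)) * t⁻¹ := by rw [h5]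
        _ = v * x := by group
    · right
      constructor
      · intro x hx
        rw [mem_cj] at hx ⊢
        have h3 := h.comm_V hR (h.KR_le_QR hR hx) hv'
        have e : t⁻¹ * (v * x * v⁻¹ * x⁻¹) * t =
            (t⁻¹ * x * t * (t⁻¹ * v * t) * (t⁻¹ * x * t)⁻¹ * (t⁻¹ * v * t)⁻¹)⁻¹ := by group
        rw [e]
        exact inv_mem h3
      · intro z hz
        rw [mem_cj] at hz
        obtain ⟨w, hw, h3⟩ := h.full_V hR ha hal ha2 (inv_mem hz)
        refine ⟨t * w * t⁻¹, hcj hw, ?_⟩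
        calc v * (t * w * t⁻¹) * v⁻¹ * (t * w * t⁻¹)⁻¹ = t * (w * (t⁻¹ * v * t) * w⁻¹ * (t⁻¹ * v * t)⁻¹)⁻¹ * t⁻¹ := by
              group
          _ = t * ((t⁻¹ * z * t)⁻¹)⁻¹ * t⁻¹ := by rw [h3]
          _ = z := by group
  · intro a ha r hr
    rw [mem_cj] at ha
    have h3 : t⁻¹ * r * t ∈ line M i := by
      have := (mem_normalizer_iff.1 (inv_mem ht) r).1 hr
      rwa [inv_inv] at this
    have h4 := mem_centralizer_iff.1 (h.QR_cent (Ne.symm hl) hR (h.KR_le_QR hR ha)) _ (line_le M i h3)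
    calc a * r = t * (t⁻¹ * a * t * (t⁻¹ * r * t)) * t⁻¹ := by group
      _ = t * (t⁻¹ * r * t * (t⁻¹ * a * t)) * t⁻¹ := by rw [h4]
      _ = r * a := by group
  · obtain ⟨v, hv, hve⟩ := exists_fac M l ![0, 1]
    have hvR : v ∉ line M l := by
      intro h3
      have h4 := ((mem_line M).1 h3).2
      rw [hve] at h4
      simp at h4
    have hvi : M.e v i 1 = 0 := by
      rw [hv.2 i (Ne.symm hl)]
      rfl
    obtain ⟨h5, h6⟩ := h2 t ht htT v hv.1 hvi
    refine ⟨_, h5, h6, ?_⟩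
    obtain ⟨r, hr, hr1⟩ := (Subgroup.bot_or_exists_ne_one (line M l)).resolve_left (h.R_ne hR)
    obtain ⟨w, hw, h7⟩ := h.full_V hR hv hvR (v := v) (by rw [inv_mul_cancel]; exact one_mem _) hr
    refine ⟨t * w * t⁻¹, hcj hw, fun h8 => hr1 ?_⟩
    rw [← h7]
    have h9 : w * v = v * w := by
      calc w * v = t⁻¹ * (t * w * t⁻¹ * (t * v * t⁻¹)) * t := by group
        _ = t⁻¹ * (t * v * t⁻¹ * (t * w * t⁻¹)) * t := by rw [h8]
        _ = v * w := by group
    rw [h9, mul_inv_cancel_right, mul_inv_cancel]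
  · intro m a _ ha hc
    exact comm_line h.le ha hc

/-- `T` is a Sylow 2-subgroup of `N_G(R)`. -/
theorem not_dvd (h : Cx M) {i : Fin k} (h2 : LemTwo M i) :
    ¬ 2 ∣ (stab M i).relIndex (normalizer (line M i : Set G)) :=
  not_dvd_of_perm M h.le fun _ ht htT _ hl => perm h h2 ht htT hl

theorem lemTwo (h : Cx M) {i : Fin k} (hk : ∃ j, j ≠ i) : LemTwo M i := by
  have hf : SylFr.FrH M :=
    { c2T := h.c2T
      par := h.par
      cc := h.cc
      full := fun j L hL v hv hvL r hr =>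
        h.full_V hL hv hvL (v := v) (by rw [inv_mul_cancel]; exact one_mem _) hr
      hV := fun i' y hy hyc hyQ => by
        refine h.hV ?_ hy hyc hyQ
        by_cases he : i' = i
        · rw [he]
          exact hk
        · exact ⟨i, Ne.symm he⟩ }
  intro t ht htT v hv hv0
  exact hf.minus_inv (i := i) (fun X hX hne => Orbit2.exists_orbit_two M h.le hX hne) ht htT v ⟨hv, hv0⟩

/-- **`T` is a Sylow 2-subgroup of `N_G(R)`.** -/
theorem syl (h : Cx M) {i : Fin k} (hk : ∃ j, j ≠ i) :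
    ¬ 2 ∣ (stab M i).relIndex (normalizer (line M i : Set G)) :=
  not_dvd h (lemTwo h hk)

end main

/-- Both sides of a pair: `T = N_S(V_i)` is a Sylow 2-subgroup of `N_G(R)`. -/
theorem syl_of_pair {G : Type u} [Group G] [Finite G] {F F' : Type} [Field F] [Finite F] [CharP F 2]
    [Field F'] [Finite F'] [CharP F' 2] {S S' : Sylow 2 G} {P P' : Subgroup G} {k k' : ℕ}
    {M : NatK F (S : Subgroup G) P (zl (S : Subgroup G) P) ⊥ k}
    {M' : NatK F' (S' : Subgroup G) P' (zl (S' : Subgroup G) P') ⊥ k'} {i : Fin k} {i' : Fin k'}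
    (b : BOne M i) (b' : BOne M' i') (hl : line M i = line M' i') (hF : Nat.card F' = Nat.card F)
    (hne : ∃ v ∈ fac M i, ∃ w ∈ fac M' i', v * w ≠ w * v) :
    ¬ 2 ∣ (stab M i).relIndex (normalizer (line M i : Set G)) := by
  rcases Nat.lt_or_ge k 2 with hk | hk
  · have : k = 1 := by
      have := i.2
      omega
    exact (syl_one (M := M) b.le this i).2
  · have hx : Cx M := Cx.of_ptn b.c2T b.par b.cc (ptn_of_pair b b' hl hF hne)
    have : Nontrivial (Fin k) := Fin.nontrivial_iff_two_le.2 hk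
    exact syl hx (exists_ne i)

/-- **`CaseTwo K`** -/
theorem caseTwo (K : Cls.{u}) : CaseTwo K := by
  intro G _ _ S S' hH P P' hp F F' _ _ _ _ _ _ k k' M M' i i' hk hk' h4 hF hC hC' hi hl hne _ _ hd
  exfalso
  have hc := hH.ctx.char2
  have b : BOne M i := BOne.of hc hp.star hC i
  have b' : BOne M' i' := BOne.of hc hp.star' hC' i'
  rcases hd with hd | hd
  · exact syl_of_pair b b' hl hF hne hd
  · obtain ⟨v, hv, w, hw, hvw⟩ := hne
    exact syl_of_pair b' b hl.symm hF.symm ⟨w, hw, v, hv, Ne.symm hvw⟩ hd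

end Cfsg.Agent.Omega.IId.BigFour.SylFour

end

end

-- merged: Cfsg.Agent.Mrg.Omega.HOneEnd.ThmId
section

/-!
# LeafH1, END, THEOREM ID (the glue)

**`thm_id`** : `EndIn S G₀ U R v` ⟹ `G₀ ≅ PSp_{2n}(F)`, `n ≥ 3`, with `U ↦ ⟨X_a | a > 0⟩`, `R ↦ X_ρ` (`ρ` the short dominant
root), or `G₀ ≅ F₄(K)` with `U ↦ ⟨X_a | a > 0⟩`, `R ↦ X_s`, `s` dominant.
-/

set_option autoImplicit false
set_option linter.unusedSectionVars false
set_option Elab.async false

namespace Cfsg.Agent.Omega.HOneEnd.ThmId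

open CoxeterSystem Cfsg.Agent.ChevalleyStructure.CoxeterGeom Cfsg.Agent.Tits.Roots Cfsg.Agent.Tits.Core
open Cfsg Cfsg.Lie Cfsg.Agent.Nodes.BNOf Cfsg.Agent.Nodes.Coroot Cfsg.Agent.KFacts.RgdCent
  Cfsg.Agent.Nodes.RGDChev Cfsg.Agent.TitsThree Cfsg.Agent.Nodes Cfsg.Agent.Nodes.KindBC Cfsg.Agent.Nodes.TypeC
  Cfsg.Agent.Nodes.TypeCForm Cfsg.Agent.KFacts.RgdOdd
open Cfsg.Agent.KFacts.SysSp (sys_PSp sup_eq_top_PSp noCent_PSp conn_B eSp)
open Cfsg.Agent.KFacts.F4Pair (XF eF sysF)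
open Cfsg.Agent.KFacts.F4Cent (v)
open Cfsg.Agent.Nodes.KindF (isType)
open Cfsg.Agent.Omega.HOneEnd.SysID Cfsg.Agent.Omega.HOneEnd.TwoInst
open Subgroup

section rad

variable {m : ℕ} {W : Type*} [Group W] [Finite W] {cs : CoxeterSystem (CoxeterMatrix.B m) W}

theorem wt_nonneg {o : Fin m} {c : Fin m × Bool} (hc : c ≠ (o, false)) : 0 ≤ wt c o := by
  rw [wt_apply]
  obtain ⟨i, b⟩ := c
  by_cases h : o = i
  · subst h
    cases b
    · exact absurd rfl hc
    · simp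
  · rw [if_neg h]

theorem wt_mul_sn (c d : Fin m × Bool) : -1 ≤ wt c d.1 * sn d := by
  rw [wt_apply]
  unfold sn
  split_ifs <;> norm_num

theorem exists_o (hm : 3 ≤ m) {x : Fin m → ℤ} (hx : x ∈ Rad cs (TypeC.isCartan m) (sigC hm)) :
    ∃ c : Fin m × Bool, c ≠ (⟨0, by omega⟩, false) ∧ Ok (⟨0, by omega⟩, true) c ∧
      x = rt (⟨0, by omega⟩, true) c := by
  obtain ⟨a, b, hab, rfl⟩ := exists_rt hx.1
  have h1 := hx.2
  unfold sigC at h1
  rw [cpr_rt_self, ee_rt] at h1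
  simp only [Pi.add_apply, sn, if_true, mul_one] at h1
  have key : ∀ a b : Fin m × Bool, Ok a b → 1 ≤ wt a ⟨0, by omega⟩ + wt b ⟨0, by omega⟩ →
      a = (⟨0, by omega⟩, true) → ∃ c : Fin m × Bool, c ≠ (⟨0, by omega⟩, false) ∧ Ok (⟨0, by omega⟩, true) c ∧
      rt a b = rt (⟨0, by omega⟩, true) c := by
    rintro a b hab h1 rfl
    refine ⟨b, ?_, hab, rfl⟩
    rintro rfl
    rw [wt_apply, wt_apply] at h1
    simp at h1
  by_cases ha : a = (⟨0, by omega⟩, true)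
  · exact key a b hab h1 ha
  by_cases hb : b = (⟨0, by omega⟩, true)
  · rw [rt_comm]
    refine key b a ?_ (by rw [add_comm]; exact h1) hb
    rcases hab with h | h
    · exact Or.inl (Ne.symm h)
    · exact Or.inr h.symm
  · exfalso
    have h2 : ∀ a : Fin m × Bool, a ≠ (⟨0, by omega⟩, true) → wt a ⟨0, by omega⟩ ≤ 0 := by
      intro a ha
      rw [wt_apply]
      obtain ⟨i, t⟩ := a
      by_cases h : (⟨0, by omega⟩ : Fin m) = i
      · subst h
        cases t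
        · simp
        · exact absurd rfl ha
      · rw [if_neg h]
    have := h2 a ha
    have := h2 b hb
    omega

/-- the roots `ε₀ ± ε_j`, `2 ε₀` have nonnegative products -/
theorem rad_sig (hm : 3 ≤ m) : ∀ a ∈ Rad cs (TypeC.isCartan m) (sigC hm), ∀ b ∈ Rad cs (TypeC.isCartan m) (sigC hm),
    0 ≤ cpr cs (TypeC.isCartan m) a b := by
  intro a ha b hb
  obtain ⟨c, hc, -, rfl⟩ := exists_o hm ha
  obtain ⟨d, hd, hod, rfl⟩ := exists_o hm hb
  have h1 := wt_nonneg hc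
  have h2 := wt_mul_sn c d
  rcases hod with h | h
  · rw [cpr_rt cs _ h, ee_rt]
    have h3 : wt ((⟨0, by omega⟩, true) : Fin m × Bool) ⟨0, by omega⟩ = 1 := by rw [wt_apply]; simp
    have h4 : wt ((⟨0, by omega⟩, true) : Fin m × Bool) d.1 = 0 := by
      rw [wt_apply, if_neg (fun e => h e.symm)]
    simp only [Pi.add_apply, h3, h4, zero_add]
    have h5 : sn ((⟨0, by omega⟩, true) : Fin m × Bool) = 1 := rfl
    rw [h5, mul_one]
    linarith
  · rw [← h, cpr_rt_self, ee_rt]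
    have h3 : wt ((⟨0, by omega⟩, true) : Fin m × Bool) ⟨0, by omega⟩ = 1 := by rw [wt_apply]; simp
    simp only [Pi.add_apply, h3]
    have h5 : sn ((⟨0, by omega⟩, true) : Fin m × Bool) = 1 := rfl
    rw [h5, mul_one]
    linarith

end rad

universe u

/-- **THEOREM ID.** -/
theorem thm_id {G : Type u} [Group G] [Finite G] {S G₀ U R : Subgroup G} {v : G} (h : EndIn S G₀ U R v) :
    (∃ (F : Type) (_ : Field F) (_ : Fintype F) (_ : CharP F 2) (n : ℕ) (hn : 3 ≤ n) (φ : ↥G₀ ≃* PSp n F),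
      (U.subgroupOf G₀).map φ.toMonoidHom = RGD.Sup (WittModel.X (KInstSp.model n F))
        (RGD.Pos (CoxeterMatrix.B n).toCoxeterSystem (TypeC.isCartan n)) ∧
      (R.subgroupOf G₀).map φ.toMonoidHom = WittModel.X (KInstSp.model n F) (rhoC hn)) ∨
    (∃ (K : Type) (_ : Field K) (_ : Fintype K) (_ : CharP K 2) (φ : ↥G₀ ≃* ↥(chevF4.group K)),
      (U.subgroupOf G₀).map φ.toMonoidHom = RGD.Sup (XF K) (RGD.Pos FFour.cF isType.isCartan) ∧
      ∃ s, FFour.Dom s ∧ (R.subgroupOf G₀).map φ.toMonoidHom = XF K s) := by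
  have : Fact (Nat.Prime 2) := ⟨Nat.prime_two⟩
  obtain ⟨hv, H⟩ := h.lIn
  obtain ⟨Q, hQU, h3, hirr⟩ := h.bn
  have hs := h.simple
  rcases TTwo.t2_of_fam (Parity.fam_two Q h3 hirr hQU H.odd) with h2 | ⟨F, i1, i2, i3, n, hn, ⟨ψ⟩⟩ | ⟨K, i1, i2, i3, ⟨ψ⟩⟩
  · exfalso
    have hi : ¬ 2 ∣ (U.subgroupOf G₀).index := fun h1 => (Nat.not_even_iff_odd.2 H.odd) (even_iff_two_dvd.2 h1)
    have h4 := h2 (H.two.toSylow hi) (R.subgroupOf G₀) H.R_U (Subgroup.le_centralizer_iff.1 H.U_R) H.R_ne H.NU H.max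
      ⟨v, hv⟩ H.v_U ?_ H.v_ne
    · exact H.v_R h4
    · exact fun x hx => (mem_centralizer_singleton_iff.1 (H.U_v hx))
  · left
    have hW : Finite (CoxeterMatrix.B n).Group := finite_W (CoxeterMatrix.B n).toCoxeterSystem
    have I := inp_C hn F (CoxeterMatrix.B n).toCoxeterSystem
    obtain ⟨φ, e1, e2⟩ := exists_iso_left (sys_PSp n F (CoxeterMatrix.B n).toCoxeterSystem) I.sup I.cent I.two I.conn
      (rad_sig hn) ψ H
    exact ⟨F, i1, i2, i3, n, hn, φ, e1, e2⟩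
  · right
    have hW := FFour.finW
    have I := inp_F K FFour.cF
    obtain ⟨φ, e1, e2⟩ := SysID.exists_iso (sysF FFour.cF) I.sup I.cent I.two I.conn ψ H
    refine ⟨K, i1, i2, i3, φ, e1, ?_⟩
    rcases e2 with e2 | e2
    · exact ⟨_, Or.inl rfl, e2⟩
    · exact ⟨_, Or.inr rfl, e2⟩

end Cfsg.Agent.Omega.HOneEnd.ThmId

end

-- merged: Cfsg.Agent.Mrg.Omega.HOneEnd.FFourMax
section

/-!
# `F₄(q)`, `q` even: `N(X_r)` is maximal, `C(xy)`, `Z(U)` (K-facts for WrMain4, `FK`)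

* `max_G` : a subgroup of `G₀ = j(F₄(K))` properly containing `N_{G₀}(X_r)` is `G₀`;
* `mix_G2` : `C_{G₀}(xy) ≤ N(X_s)` for `1 ≠ x ∈ X_s`, `1 ≠ y ∈ X_r`;
* `zU_G` : `Z(U) ≤ X_s X_r`.
-/

set_option autoImplicit false
set_option Elab.async false
set_option linter.unusedSectionVars false

namespace Cfsg.Agent.Omega.HOneEnd.FFour

open CoxeterSystem Cfsg.Agent.ChevalleyStructure.CoxeterGeom Cfsg.Agent.Tits.Roots Cfsg.Agent.Tits.Core
open Cfsg Cfsg.Lie Cfsg.Agent.ChevalleyStructure Cfsg.Agent.ChevalleyStructure.Elts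
  Cfsg.Agent.ChevalleyStructure.RootVec Cfsg.Agent.ChevalleyStructure.CoxeterGeomTypes
open Cfsg.Agent.Nodes Cfsg.Agent.Nodes.Reps Cfsg.Agent.Nodes.BNOf Cfsg.Agent.Nodes.RGDChev Cfsg.Agent.Nodes.Coroot
  Cfsg.Agent.Nodes.KindF Cfsg.Agent.Nodes.Bruhat Cfsg.Agent.Nodes.OppDec Cfsg.Agent.Nodes.LeviDec
  Cfsg.Agent.Nodes.StabComb Cfsg.Agent.KFacts.ChevTwo
  Cfsg.Agent.KFacts.ChevTwoTab Cfsg.Agent.KFacts.RgdAut Cfsg.Agent.KFacts.RgdPar
  Cfsg.Agent.KFacts.ChevTwoInst Cfsg.Agent.KFacts.RgdTI Cfsg.Agent.KFacts.RgdOdd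
  Cfsg.Agent.KFacts.F4Star Cfsg.Agent.KFacts.F4Cent Cfsg.Agent.KFacts.F4Pair Cfsg.Agent.KFacts.F4Torus
  Cfsg.Agent.KFacts.F4Perf Cfsg.Agent.KFacts.F4Aut
open Subgroup Cfsg.Agent.Omega.All.HOne

universe u v

section gen

variable {I W Y : Type*} [Fintype I] [DecidableEq I] [Group W] [Group Y] {M : CoxeterMatrix I}
variable {cs : CoxeterSystem M W} {A : I → I → ℤ} {h : IsCartan M A} {p : ℕ} {T : Subgroup Y} {n : I → Y}
  {X : (I → ℤ) → Subgroup Y}

/-- a parabolic subgroup of corank one is maximal -/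
theorem max_of_corank (R : RGD cs h p T n X) [Finite W] (hG : GG cs h T X = ⊤) {P N : Subgroup Y}
    (hB : RGD.B cs h T X ≤ P) (hPN : P < N) {i : I} (hi : ∀ k ≠ i, n k ∈ P) : N = ⊤ := by
  have hN := inf_eq_PJ R (hB.trans hPN.le)
  have hP := inf_eq_PJ R hB
  rw [hG, inf_top_eq] at hN hP
  by_cases h1 : n i ∈ N
  · have h2 : {k | n k ∈ N} = Set.univ := by
      ext k
      by_cases hk : k = i
      · subst hk; exact ⟨fun _ => trivial, fun _ => h1⟩
      · exact ⟨fun _ => trivial, fun _ => hPN.le (hi k hk)⟩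
    rw [eq_top_iff, ← hG, ← LJ_univ, hN, h2]
    exact LJ_le_PJ
  · exfalso
    have h2 : {k | n k ∈ N} = {k | n k ∈ P} := by
      ext k
      by_cases hk : k = i
      · subst hk; exact ⟨fun h => absurd h h1, fun h => absurd (hPN.le h) h1⟩
      · exact ⟨fun _ => hi k hk, fun _ => hPN.le (hi k hk)⟩
    rw [h2, ← hP] at hN
    exact hPN.ne hN.symm

/-- `N(X_a)`, `a` dominant and orthogonal to all simple roots except one, is maximal -/
theorem max_normalizer (R : RGD cs h p T n X) [Finite W] (hG : GG cs h T X = ⊤) {a : I → ℤ} (L : LR R a)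
    (hB : RGD.Pos cs h ⊆ Ge cs h a) {i : I} (hi : ∀ k ≠ i, cpr cs h (sr k) a = 0) {N : Subgroup Y}
    (hN : normalizer (X a : Set Y) < N) : N = ⊤ :=
  max_of_corank R hG ((sup_le_sup_left (RGD.Sup_mono hB) T).trans L.PS_le_normalizer) hN
    fun k hk => (L.mem_normalizer_iff (rp_simple cs R.nsys k)).2 (L.rep_eq_iff.2 (hi k hk))

end gen

variable {K : Type v} [Field K] [Finite K] [CharP K 2] {G : Type u} [Group G] {j : ↥(chevF4.group K) →* G}

/-- all simple roots except one are orthogonal to a dominant root -/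
theorem Dom.exists_simple {r : Fin 4 → ℤ} (hr : Dom r) : ∃ i : Fin 4, ∀ k ≠ i, cpr cF isType.isCartan (sr k) r = 0 := by
  rcases hr with rfl | rfl
  · refine ⟨3, fun k hk => ?_⟩
    rw [cpr_zero_comm cF _ (isRoot_sr cF _ k) (isRoot_v cF (by norm_num)), cpr_sr, pair47, if_neg hk]
  · refine ⟨0, fun k hk => ?_⟩
    rw [cpr_zero_comm cF _ (isRoot_sr cF _ k) (isRoot_v cF (by norm_num)), cpr_sr, pair44, if_neg hk]

/-- **`N(X_r)` is a maximal subgroup of `F₄(K)`.** -/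
theorem max_K {r : Fin 4 → ℤ} (hr : Dom r) {M : Subgroup ↥(chevF4.group K)}
    (h : normalizer (XF K r : Set ↥(chevF4.group K)) < M) : M = ⊤ := by
  obtain ⟨i, hi⟩ := hr.exists_simple
  exact max_normalizer (rgd (K := K) isType cF 2) (GG_top cF) ((sysF (K := K) cF).lr hr.root) hr.pos_sub hi h

/-- **`max_b`** -/
theorem max_G (hj : Function.Injective j) {r : Fin 4 → ℤ} (hr : Dom r) {M : Subgroup G} (hM : M ≤ j.range)
    (h : j.range ⊓ normalizer (XG j r : Set G) < M) : M = j.range := by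
  have e : (normalizer (XF K r : Set ↥(chevF4.group K))).map j = j.range ⊓ normalizer (XG j r : Set G) := by
    apply le_antisymm
    · rintro _ ⟨x, hx, rfl⟩
      exact ⟨⟨x, rfl⟩, map_mem_normalizer hx⟩
    · rintro _ ⟨⟨x, rfl⟩, hx⟩
      refine ⟨x, ?_, rfl⟩
      rw [SetLike.mem_coe, mem_normalizer_iff]
      intro y
      have key : ∀ {z}, j z ∈ XG j r ↔ z ∈ XF K r := fun {z} =>
        ⟨fun ⟨w, hw, e⟩ => hj e ▸ hw, fun hz => ⟨z, hz, rfl⟩⟩
      rw [← key, ← key, map_mul, map_mul, map_inv]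
      exact mem_normalizer_iff.1 hx (j y)
  have hm : (M.comap j).map j = M := map_comap_eq_self hM
  rw [← e, ← hm] at h
  have h1 : M.comap j = ⊤ := max_K hr (lt_of_le_of_ne ((map_le_map_iff_of_injective hj).1 h.le)
    fun h2 => h.ne (by rw [h2]))
  rw [← hm, h1, ← MonoidHom.range_eq_map]

/-- **`mix`** -/
theorem mix_G2 (hj : Function.Injective j) {r s : Fin 4 → ℤ} (hr : Dom r) (hs : Dom s) (hrs : r ≠ s) {x y : G}
    (hx : x ∈ XG j s) (hy : y ∈ XG j r) (hx1 : x ≠ 1) (hy1 : y ≠ 1) :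
    j.range ⊓ centralizer ({x * y} : Set G) ≤ normalizer (XG j s : Set G) := by
  rintro _ ⟨⟨g, rfl⟩, hg⟩
  have hg : j g * (x * y) = x * y * j g := mem_centralizer_singleton_iff.1 hg
  obtain ⟨x, hx, rfl⟩ := hx
  obtain ⟨y, hy, rfl⟩ := hy
  have hx1' : x ≠ 1 := fun h => hx1 (by rw [h, map_one])
  have hy1' : y ≠ 1 := fun h => hy1 (by rw [h, map_one])
  have h1 : g * (x * y) = x * y * g := hj (by rw [map_mul, map_mul, map_mul, map_mul]; exact hg)
  have h2 : g * x = x * g := by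
    rcases hr with rfl | rfl <;> rcases hs with rfl | rfl
    · exact absurd rfl hrs
    · exact (comm_of_ab hx hy hx1' hy1' h1).1
    · have e : x * y = y * x := pos_comm (Or.inr rfl)
        (RGD.le_Sup (Dom.rad_sub (Or.inl rfl) (self_mem_rad (Dom.root (Or.inl rfl)))) hx) hy
      rw [e] at h1
      exact (comm_of_ab hy hx hy1' hx1' h1).2
    · exact absurd rfl hrs
  exact norm_XG hj hs ⟨x, hx, rfl⟩ hx1 (le_normalizer ⟨g, rfl⟩) (by rw [← map_mul, ← map_mul, h2])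

theorem XX_eq : XG j (v 47) ⊔ XG j (v 44) = SG j {v 47, v 44} := by
  unfold XG SG
  rw [← Subgroup.map_sup]
  congr 1
  apply le_antisymm
  · exact sup_le (RGD.le_Sup (Or.inl rfl)) (RGD.le_Sup (Or.inr rfl))
  · refine RGD.Sup_le fun z hz => ?_
    rcases hz with rfl | rfl
    · exact le_sup_left
    · exact le_sup_right

/-- **`zU`** -/
theorem zU_G (hj : Function.Injective j) {r s : Fin 4 → ℤ} (hr : Dom r) (hs : Dom s) (hrs : r ≠ s) {z : G}
    (hz : z ∈ SG j (RGD.Pos cF isType.isCartan))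
    (hc : SG j (RGD.Pos cF isType.isCartan) ≤ centralizer ({z} : Set G)) : ∃ x ∈ XG j s, ∃ y ∈ XG j r, z = x * y := by
  obtain ⟨z, hz, rfl⟩ := hz
  have h1 : z ∈ RGD.Sup (XF K) {v 47, v 44} := by
    refine cent_pos cF (cm_of_comm (fun x hx => hx.1) fun p hp => hj ?_)
    rw [map_mul, map_mul]
    exact (mem_centralizer_singleton_iff.1 (hc ⟨p, hp, rfl⟩)).symm
  have h2 : j z ∈ XG j s ⊔ XG j r := by
    have h3 : j z ∈ XG j (v 47) ⊔ XG j (v 44) := by rw [XX_eq]; exact ⟨z, h1, rfl⟩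
    rcases hr with rfl | rfl <;> rcases hs with rfl | rfl
    · exact absurd rfl hrs
    · rwa [_root_.sup_comm] at h3
    · exact h3
    · exact absurd rfl hrs
  have h4 : XG j s ≤ normalizer (XG j r : Set G) :=
    (XG_le_SG (hs.rad_sub (self_mem_rad hs.root))).trans (U_le_norm hr)
  rw [← SetLike.mem_coe, coe_mul_of_left_le_normalizer_right _ _ h4] at h2
  obtain ⟨x, hx, y, hy, e⟩ := h2
  exact ⟨x, hx, y, hy, e.symm⟩

end Cfsg.Agent.Omega.HOneEnd.FFour

end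

-- merged: Cfsg.Agent.Mrg.Omega.HOneEnd.FFourFK
section

/-!
# WrMain4, section 6: the K-facts `FK` for `F₄(q)`, `q ≥ 2` even

`Emb.fk` : for an embedding `j : F₄(K) →* G` with `Emb j T (N_G(G₀))`, and the two dominant roots `s ≠ r` in either order;
`fk_of` : for `φ : G₀ ≃* F₄(K)`, `φ(R) = X_s`.
-/

set_option autoImplicit false
set_option Elab.async false
set_option linter.unusedSectionVars false

namespace Cfsg.Agent.Omega.HOneEnd.FFour

open CoxeterSystem Cfsg.Agent.ChevalleyStructure.CoxeterGeom Cfsg.Agent.Tits.Roots Cfsg.Agent.Tits.Core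
open Cfsg Cfsg.Lie Cfsg.Agent.ChevalleyStructure Cfsg.Agent.ChevalleyStructure.Elts
  Cfsg.Agent.ChevalleyStructure.RootVec Cfsg.Agent.ChevalleyStructure.CoxeterGeomTypes
open Cfsg.Agent.Nodes Cfsg.Agent.Nodes.Reps Cfsg.Agent.Nodes.BNOf Cfsg.Agent.Nodes.RGDChev Cfsg.Agent.Nodes.Coroot
  Cfsg.Agent.Nodes.KindF Cfsg.Agent.KFacts.ChevTwo Cfsg.Agent.KFacts.ChevTwoTab
  Cfsg.Agent.KFacts.ChevTwoInst Cfsg.Agent.KFacts.RgdTI Cfsg.Agent.KFacts.RgdOdd
  Cfsg.Agent.KFacts.F4Star Cfsg.Agent.KFacts.F4Cent Cfsg.Agent.KFacts.F4Pair Cfsg.Agent.KFacts.F4Torus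
open Subgroup Cfsg.Agent.Omega.All.HOne
open Cfsg.Agent.Omega.IId.M4 (FK)

universe u v

variable {K : Type v} [Field K] [Finite K] [CharP K 2] {G : Type u} [Group G] {j : ↥(chevF4.group K) →* G}

theorem CG_le_norm {r : Fin 4 → ℤ} (hr : Dom r) : CG j r ≤ normalizer (QG j r : Set G) := by
  rintro _ ⟨c, hc, rfl⟩
  exact map_mem_normalizer (ge_le_normalizer hr.root hc)

/-- **The K-facts `FK` of WrMain4 for `F₄(q)`.** -/
theorem Emb.fk [Finite G] {T : Subgroup G} (E : Emb j T (normalizer (j.range : Set G))) {r s : Fin 4 → ℤ} (hr : Dom r)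
    (hs : Dom s) (hrs : r ≠ s) :
    FK T j.range (XG j s) (XG j r) (CG j s) (CG j r) (QG j s) (QG j r) (UG j s) (UG j r) where
  side_a := E.side' hs
  side_b := E.side' hr
  C_Qa := CG_le_norm hs
  C_Qb := CG_le_norm hr
  Ca_eq := E.CG_eq hs
  Cb_eq := E.CG_eq hr
  zU z hz h := by
    rw [E.S₀] at hz h
    exact zU_G E.inj hr hs hrs hz h
  mix _ hx _ hy hx1 hy1 := mix_G2 E.inj hr hs hrs hx hy hx1 hy1
  max_b _ hM h := max_G E.inj hr hM h

variable {G₀ : Subgroup G}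

/-- **`FK` for `G₀ ≅ F₄(K)`, `R = X_s`.** -/
theorem fk_of [Finite G] (φ : ↥G₀ ≃* ↥(chevF4.group K)) {T R : Subgroup G} (hT : IsPGroup 2 T)
    (hTG : T ≤ normalizer (G₀ : Set G)) (hTR : T ≤ normalizer (R : Set G)) (hR : R ≤ G₀)
    (hc : centralizer (G₀ : Set G) = ⊥)
    (hU : ((T ⊓ G₀).subgroupOf G₀).map φ.toMonoidHom = RGD.Sup (XF K) (RGD.Pos cF isType.isCartan))
    {s : Fin 4 → ℤ} (hs : Dom s) (hX : (R.subgroupOf G₀).map φ.toMonoidHom = XF K s) :
    ∃ Xb Ca Cb Qa Qb Ua Ub : Subgroup G, FK T G₀ R Xb Ca Cb Qa Qb Ua Ub := by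
  have E := emb_of φ hT hTG hTR hR hc hU hs hX
  obtain ⟨r, hr, hrs⟩ := exists_other hs
  have hXR := XG_emb φ hR hX
  have hj : (emb φ).range = G₀ := emb_range φ
  have E' : Emb (emb φ) T (normalizer ((emb φ).range : Set G)) := by rw [hj]; exact E
  have h1 := E'.fk hr hs hrs
  rw [hj, hXR] at h1
  exact ⟨_, _, _, _, _, _, _, h1⟩

end Cfsg.Agent.Omega.HOneEnd.FFour

end

-- merged: Cfsg.Agent.Mrg.Omega.IId.M4.SpKof
section

section


/-!
# WrMain4: the K-facts `SpK` for `G₀ ≅ Sp_2n(q)`, `q` even, `n ≥ 3`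

* `spK` : `SpK` over `Hyp0 ι T`;
* `exists_hyp0` : the standard position of `T`, `T ∩ G₀` Sylow in `G₀`;
* `exists_spK` : `SpK` for `φ : G₀ ≃* PSp n F`, `R` a short root group;
* `spK_of_endIn` : the same over the interface `EndIn`.
-/

set_option autoImplicit false
set_option linter.unusedSectionVars false

namespace Cfsg.Agent.Omega.IId.M4

open Cfsg Cfsg.Agent.ClassicalGeometry.SympBasic Cfsg.Agent.ClassicalGeometry.SympAutSemi
open Cfsg.Agent.OddHalf.SpN Cfsg.Agent.OddHalf.SpN.Out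
open Subgroup Cfsg.Agent.ZN
open Cfsg.Agent.Nodes.TypeC Cfsg.Agent.TitsThree Cfsg.Agent.TitsThree.Siegel
open Cfsg.Agent.KFacts.SysSp (eSp)
open Cfsg.Agent.Omega.All.SpN (Hyp0 C0 D0 QS US UL i0 i1)
open Cfsg.Agent.Omega.HOneEnd.SpIota (iota iota_inj iota_range mem_X12_of_alt alt_sx eSp_eq cv dj_cv)
open Cfsg.Agent.Omega.HOneEnd (EndIn)

variable {n : ℕ} {F : Type*} [Field F] [Finite F] [CharP F 2]

theorem spK {G : Type*} [Group G] [Finite G] {ι : Sy n F →* G} {T : Subgroup G} (H : Hyp0 ι T) (hn : 3 ≤ n) :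
    SpK T ι.range ((X12 hn).map ι) ((Y1 hn).map ι) ((C0 hn).map ι) ((D0 hn).map ι) ((QS (i0 hn) (i1 hn)).map ι)
      ((UL (i0 hn)).map ι) ((US (i0 hn) (i1 hn)).map ι) where
  side_a := H.side hn
  C_Qa := H.C_Q hn
  zU _ hz hc := H.zU hn hz hc
  mix _ hx _ hy hx1 _ := H.mix hn hx hy hx1
  T_C := H.S_D hn
  C_X := by rw [H.D_eq hn]; exact inf_le_right
  Q_max := H.L_max hn
  fld _ ht hc := H.L_fld hn ht hc
  abel := Hyp0.L_abel hn

theorem card_X12 {G : Type*} [Group G] [Finite G] {ι : Sy n F →* G} (hι : Function.Injective ι) (hn : 3 ≤ n) :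
    Nat.card F ≤ Nat.card ↥((X12 hn).map ι) := by
  apply Nat.card_le_card_of_injective (fun t : F => (⟨ι (zz hn t 0), ⟨_, ⟨t, rfl⟩, rfl⟩⟩ : ↥((X12 hn).map ι)))
  intro t t' h
  exact (zz_inj hn (hι (congrArg Subtype.val h))).1

/-- `|U_a| ≤ q³` -/
theorem card_US {G : Type*} [Group G] (ι : Sy n F →* G) (hn : 3 ≤ n) :
    Nat.card ↥((US (i0 hn) (i1 hn)).map ι) ≤ Nat.card F ^ 3 := by
  have h1 : Nat.card (F × F × F) = Nat.card F ^ 3 := by
    rw [Nat.card_prod, Nat.card_prod]; ring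
  have h2 : ∀ a b c : F, sx (i0 hn) (i1 hn) c * Cfsg.Agent.OddHalf.SpN.sy (i0 hn) a *
      Cfsg.Agent.OddHalf.SpN.sy (i1 hn) b ∈ US (i0 hn) (i1 hn) := by
    intro a b c
    refine mul_mem (mul_mem ?_ ?_) ?_
    · exact Cfsg.Agent.Omega.All.SpN.sx_mem_US (Cfsg.Agent.Omega.All.SpN.d01 hn) _
    · exact Cfsg.Agent.Omega.All.SpN.sy_mem_US _
    · exact Cfsg.Agent.Omega.All.SpN.sy_mem_US' _
  rw [← h1]
  apply Nat.card_le_card_of_surjective (fun x : F × F × F =>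
    (⟨ι (sx (i0 hn) (i1 hn) x.2.2 * Cfsg.Agent.OddHalf.SpN.sy (i0 hn) x.1 *
      Cfsg.Agent.OddHalf.SpN.sy (i1 hn) x.2.1), ⟨_, h2 x.1 x.2.1 x.2.2, rfl⟩⟩ : ↥((US (i0 hn) (i1 hn)).map ι)))
  rintro ⟨_, A, hA, rfl⟩
  obtain ⟨a, b, c, rfl⟩ := Cfsg.Agent.Omega.All.SpN.exists_US (Cfsg.Agent.Omega.All.SpN.d01 hn) hA
  exact ⟨(a, b, c), rfl⟩

/-- the standard position of `T` -/
theorem exists_hyp0 {G : Type*} [Group G] [Finite G] {ι₀ : Sy n F →* G} (hι : Function.Injective ι₀)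
    (hcen : ∀ c : G, (∀ A, ι₀ A * c = c * ι₀ A) → c = 1) {T : Subgroup G} (hT : IsPGroup 2 T)
    (hTY : T ≤ normalizer (ι₀.range : Set G))
    (hmax : ∀ P : Subgroup G, P ≤ ι₀.range → IsPGroup 2 P → T ⊓ ι₀.range ≤ P → P ≤ T) :
    ∃ (ι : Sy n F →* G) (y : G), y ∈ normalizer (ι₀.range : Set G) ∧ (∀ A, ι A = y * ι₀ A * y⁻¹) ∧
      ι.range = ι₀.range ∧ Hyp0 ι T := by
  have : Fact (Nat.Prime 2) := ⟨Nat.prime_two⟩
  have h1 : IsPGroup 2 (((Up n F).map ι₀).subgroupOf ι₀.range) :=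
    (isPGroup_Up.map ι₀).comap_of_injective ι₀.range.subtype ι₀.range.subtype_injective
  obtain ⟨P, hP⟩ := h1.exists_le_sylow
  have h2 : IsPGroup 2 (T.subgroupOf ι₀.range) := hT.comap_of_injective _ ι₀.range.subtype_injective
  let Q : Sylow 2 ↥ι₀.range := ⟨T.subgroupOf ι₀.range, h2, fun {K} hK hle => by
    apply le_antisymm
    · intro k hk
      have h3 := hmax (K.map ι₀.range.subtype) (by rintro _ ⟨x, -, rfl⟩; exact x.2) (hK.map _) (by
        rintro x ⟨hx, hx'⟩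
        exact ⟨⟨x, hx'⟩, hle (mem_subgroupOf.2 hx), rfl⟩)
      exact mem_subgroupOf.2 (h3 ⟨k, hk, rfl⟩)
    · exact hle⟩
  obtain ⟨y, hy⟩ := MulAction.exists_smul_eq ↥ι₀.range P Q
  have key : ∀ A ∈ Up n F, (y : G) * ι₀ A * (y : G)⁻¹ ∈ T := by
    intro A hA
    have h2 : (⟨ι₀ A, ⟨A, rfl⟩⟩ : ↥ι₀.range) ∈ (P : Subgroup ↥ι₀.range) := hP ⟨A, hA, rfl⟩
    have h3 : y * ⟨ι₀ A, ⟨A, rfl⟩⟩ * y⁻¹ ∈ ((y • P : Sylow 2 ↥ι₀.range) : Subgroup ↥ι₀.range) := by
      rw [Sylow.coe_subgroup_smul]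
      exact ⟨_, h2, rfl⟩
    rw [hy] at h3
    exact mem_subgroupOf.1 h3
  have hyN : (y : G) ∈ normalizer (ι₀.range : Set G) := le_normalizer y.2
  let ι : Sy n F →* G := (MulAut.conj (y : G)).toMonoidHom.comp ι₀
  have hιe : ∀ A, ι A = (y : G) * ι₀ A * (y : G)⁻¹ := fun A => rfl
  have hr : ι.range = ι₀.range := by
    ext x
    constructor
    · rintro ⟨A, rfl⟩
      exact (mem_normalizer_iff.1 hyN _).1 ⟨A, rfl⟩
    · intro hx
      obtain ⟨A, hA⟩ := (mem_normalizer_iff''.1 hyN x).1 hx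
      exact ⟨A, by rw [hιe, hA]; group⟩
  have hιi : Function.Injective ι := fun A B h => hι (by
    rw [hιe, hιe] at h
    exact mul_left_cancel (mul_right_cancel h))
  refine ⟨ι, y, hyN, hιe, hr, hιi, fun c hc => ?_, hT, by rw [hr]; exact hTY, ?_⟩
  · have h2 : (y : G)⁻¹ * c * y = 1 := by
      apply hcen
      intro A
      have h3 := hc A
      rw [hιe] at h3
      calc ι₀ A * ((y : G)⁻¹ * c * y) = (y : G)⁻¹ * ((y : G) * ι₀ A * (y : G)⁻¹ * c) * y := by group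
        _ = (y : G)⁻¹ * (c * ((y : G) * ι₀ A * (y : G)⁻¹)) * y := by rw [h3]
        _ = _ := by group
    calc c = (y : G) * ((y : G)⁻¹ * c * y) * (y : G)⁻¹ := by group
      _ = 1 := by rw [h2]; group
  · apply le_antisymm
    · rintro _ ⟨hx, ⟨A, rfl⟩⟩
      have h1 : IsPGroup 2 ((T.comap ι : Subgroup (Sy n F))) := hT.comap_of_injective ι hιi
      exact ⟨A, Up_max h1 (fun B hB => key B hB) hx, rfl⟩
    · rintro _ ⟨A, hA, rfl⟩
      exact ⟨key A hA, ⟨A, rfl⟩⟩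

theorem R_eq0 {G : Type*} [Group G] [Finite G] {ι₀ ι : Sy n F →* G} (hι₀ : Function.Injective ι₀) {y : G}
    (hy : y ∈ normalizer (ι₀.range : Set G)) (hιe : ∀ A, ι A = y * ι₀ A * y⁻¹) (hr : ι.range = ι₀.range)
    {S : Subgroup G} (H : Hyp0 ι S) (hn : 3 ≤ n) {R : Subgroup G} {i j : Ix n} (hd : Dj i j)
    (hR : ∀ x, x ∈ R ↔ ∃ t : F, x = ι₀ (sx i j t)) (hSR : S ⊓ ι.range ≤ centralizer (R : Set G)) :
    R = (X12 hn).map ι := by
  apply Subgroup.eq_of_le_of_card_ge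
  · intro x hx
    obtain ⟨t, ht⟩ := (hR x).1 hx
    have hy' : y⁻¹ ∈ normalizer (ι.range : Set G) := by rw [hr]; exact inv_mem hy
    obtain ⟨s, φ, hs, ha⟩ := exists_acts hn H.inj hy'
    obtain ⟨C, hC, hC'⟩ := ha (sx i j t)
    have hx' : x = ι C := by
      rw [← hC, hιe, ht]; group
    have hU : ∀ A, A ∈ Up n F ↔ ι A ∈ S ⊓ ι.range := by
      intro A
      rw [H.U_eq]
      exact ⟨fun h => ⟨A, h, rfl⟩, fun ⟨A', h, e⟩ => H.inj e ▸ h⟩
    have hCz : C ∈ Zz hn := by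
      rw [mem_Zz_iff]
      intro D hD
      apply H.inj
      rw [map_mul, map_mul]
      have h1 := Subgroup.mem_centralizer_iff.1 (hSR ((hU D).1 hD)) x hx
      rw [hx'] at h1
      exact h1.symm
    refine ⟨C, mem_X12_of_alt hn hCz fun v => ?_, hx'.symm⟩
    have h2 : rho n F C v = s (rho n F (sx i j t) (s⁻¹ v)) := by rw [hC']; rfl
    have h3 : v = s (s⁻¹ v) := (perm_apply_inv_self s v).symm
    rw [h2]
    conv_lhs => rw [h3]
    rw [perm_inv_apply_self, hs.form, alt_sx hd, map_zero]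
  · have h1 : Nat.card ↥((X12 hn).map ι) ≤ Nat.card F := by
      apply Nat.card_le_card_of_surjective (fun t : F => (⟨ι (zz hn t 0), ⟨_, ⟨t, rfl⟩, rfl⟩⟩ : ↥((X12 hn).map ι)))
      rintro ⟨_, ⟨_, ⟨t, rfl⟩, rfl⟩⟩
      exact ⟨t, rfl⟩
    refine h1.trans ?_
    apply Nat.card_le_card_of_injective (fun t : F => (⟨ι₀ (sx i j t), (hR _).2 ⟨t, rfl⟩⟩ : R))
    intro t t' htt
    exact sx_inj hd (hι₀ (congrArg Subtype.val htt))

/-- **From `φ : G₀ ≃* PSp n F` to `SpK`**: `R` a short root group with `R ≤ T ⊓ G₀ ≤ C(R)`, `T ⊓ G₀` a maximal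
2-subgroup of `G₀`; `|U_a| ≤ |R|³`. -/
theorem exists_spK' {G : Type*} [Group G] [Finite G] {T G₀ R : Subgroup G} (hT : IsPGroup 2 T) (hn : 3 ≤ n)
    (φ : ↥G₀ ≃* PSp n F) (hTG : T ≤ normalizer (G₀ : Set G)) (hcen : centralizer (G₀ : Set G) = ⊥)
    (hmax : ∀ P : Subgroup G, P ≤ G₀ → IsPGroup 2 P → T ⊓ G₀ ≤ P → P ≤ T) (hRT : R ≤ T ⊓ G₀)
    (hTR : T ⊓ G₀ ≤ centralizer (R : Set G)) {ρ : Fin n → ℤ} {a b : Fin n × Bool} (hab : a.1 ≠ b.1)
    (e : ee ρ = wt a + wt b) (hR : ∀ x : ↥G₀, (x : G) ∈ R ↔ ∃ t : F, φ x = eSp n F ρ t) :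
    ∃ Xb Ca Cb Qa Qb Ua : Subgroup G, SpK T G₀ R Xb Ca Cb Qa Qb Ua ∧ Nat.card Ua ≤ Nat.card R ^ 3 := by
  have hr₀ := iota_range φ
  have hcen' : ∀ c : G, (∀ A, iota φ A * c = c * iota φ A) → c = 1 := by
    intro c hc
    have h1 : c ∈ centralizer (G₀ : Set G) := by
      rw [Subgroup.mem_centralizer_iff]
      intro g hg
      rw [SetLike.mem_coe, ← hr₀] at hg
      obtain ⟨A, rfl⟩ := hg
      exact hc A
    rwa [hcen, Subgroup.mem_bot] at h1
  obtain ⟨ι, y, hy, hιe, hr, H⟩ := exists_hyp0 (iota_inj φ) hcen' hT (by rw [hr₀]; exact hTG)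
    (by rw [hr₀]; exact hmax)
  have hRι : ∀ x, x ∈ R ↔ ∃ t : F, x = iota φ (sx (cv a) (cv b) t) := by
    intro x
    constructor
    · intro hx
      obtain ⟨t, ht⟩ := (hR ⟨x, (hRT hx).2⟩).1 hx
      refine ⟨t, ?_⟩
      rw [eSp_eq hab e] at ht
      show x = ((φ.symm (Cfsg.Agent.Omega.HOneEnd.SpIota.toP n F _) : ↥G₀) : G)
      rw [← ht, MulEquiv.symm_apply_apply]
    · rintro ⟨t, rfl⟩
      exact (hR (φ.symm (Cfsg.Agent.Omega.HOneEnd.SpIota.toP n F _))).2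
        ⟨t, by rw [MulEquiv.apply_symm_apply, eSp_eq hab e]⟩
  have hrG : ι.range = G₀ := hr.trans hr₀
  have hReq : R = (X12 hn).map ι := R_eq0 (iota_inj φ) hy hιe hr H hn (dj_cv hab) hRι
    (by rw [hrG]; exact hTR)
  have hD := spK H hn
  rw [hrG, ← hReq] at hD
  refine ⟨_, _, _, _, _, _, hD, (card_US ι hn).trans (Nat.pow_le_pow_left ?_ 3)⟩
  rw [hReq]
  exact card_X12 H.inj hn

theorem exists_spK {G : Type*} [Group G] [Finite G] {T G₀ R : Subgroup G} (hT : IsPGroup 2 T) (hn : 3 ≤ n)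
    (φ : ↥G₀ ≃* PSp n F) (hTG : T ≤ normalizer (G₀ : Set G)) (hcen : centralizer (G₀ : Set G) = ⊥)
    (hmax : ∀ P : Subgroup G, P ≤ G₀ → IsPGroup 2 P → T ⊓ G₀ ≤ P → P ≤ T) (hRT : R ≤ T ⊓ G₀)
    (hTR : T ⊓ G₀ ≤ centralizer (R : Set G)) {ρ : Fin n → ℤ} {a b : Fin n × Bool} (hab : a.1 ≠ b.1)
    (e : ee ρ = wt a + wt b) (hR : ∀ x : ↥G₀, (x : G) ∈ R ↔ ∃ t : F, φ x = eSp n F ρ t) :
    ∃ Xb Ca Cb Qa Qb Ua : Subgroup G, SpK T G₀ R Xb Ca Cb Qa Qb Ua := by
  obtain ⟨Xb, Ca, Cb, Qa, Qb, Ua, h, -⟩ := exists_spK' hT hn φ hTG hcen hmax hRT hTR hab e hR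
  exact ⟨Xb, Ca, Cb, Qa, Qb, Ua, h⟩

/-- the same over `EndIn` -/
theorem spK_of_endIn' {G : Type*} [Group G] [Finite G] {T G₀ U R : Subgroup G} {v : G} (h : EndIn T G₀ U R v)
    (hn : 3 ≤ n) (φ : ↥G₀ ≃* PSp n F) {ρ : Fin n → ℤ} {a b : Fin n × Bool} (hab : a.1 ≠ b.1)
    (e : ee ρ = wt a + wt b) (hR : ∀ x : ↥G₀, (x : G) ∈ R ↔ ∃ t : F, φ x = eSp n F ρ t) :
    ∃ Xb Ca Cb Qa Qb Ua : Subgroup G, SpK T G₀ R Xb Ca Cb Qa Qb Ua ∧ Nat.card Ua ≤ Nat.card R ^ 3 := by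
  have hUT : U ≤ T := by rw [← h.S_inf]; exact inf_le_left
  refine exists_spK' h.S_two hn φ h.S_G₀ h.cent (fun P hP hP2 hle => ?_) (by rw [h.S_inf]; exact h.R_U)
    (by rw [h.S_inf]; exact h.U_R) hab e hR
  rw [h.S_inf] at hle
  have h1 : U.relIndex P ∣ U.relIndex G₀ := by
    have := Subgroup.relIndex_mul_relIndex U P G₀ hle hP
    exact ⟨_, this.symm⟩
  have h2 : Odd (U.relIndex P) := Odd.of_dvd_nat h.odd h1
  have : Fact (Nat.Prime 2) := ⟨Nat.prime_two⟩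
  have h3 : U.relIndex P = 1 := by
    obtain ⟨k, hk⟩ := hP2.index (U.subgroupOf P)
    have h4 : U.relIndex P = 2 ^ k := hk
    rw [h4] at h2 ⊢
    rcases k with _ | k
    · rfl
    · exfalso
      rw [pow_succ] at h2
      exact (Nat.not_even_iff_odd.2 h2) (even_iff_two_dvd.2 ⟨2 ^ k, by ring⟩)
  exact (Subgroup.relIndex_eq_one.1 h3).trans hUT

theorem spK_of_endIn {G : Type*} [Group G] [Finite G] {T G₀ U R : Subgroup G} {v : G} (h : EndIn T G₀ U R v)
    (hn : 3 ≤ n) (φ : ↥G₀ ≃* PSp n F) {ρ : Fin n → ℤ} {a b : Fin n × Bool} (hab : a.1 ≠ b.1)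
    (e : ee ρ = wt a + wt b) (hR : ∀ x : ↥G₀, (x : G) ∈ R ↔ ∃ t : F, φ x = eSp n F ρ t) :
    ∃ Xb Ca Cb Qa Qb Ua : Subgroup G, SpK T G₀ R Xb Ca Cb Qa Qb Ua := by
  obtain ⟨Xb, Ca, Cb, Qa, Qb, Ua, h1, -⟩ := spK_of_endIn' h hn φ hab e hR
  exact ⟨Xb, Ca, Cb, Qa, Qb, Ua, h1⟩

/-- the same with the literal output of THEOREM ID -/
theorem spK_of_id' {W : Type*} [Group W] [Finite W] (cs : CoxeterSystem (CoxeterMatrix.B n) W) {G : Type*} [Group G]
    [Finite G] {T G₀ U R : Subgroup G} {v : G} (h : EndIn T G₀ U R v) (hn : 3 ≤ n) (φ : ↥G₀ ≃* PSp n F)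
    (hR : (R.subgroupOf G₀).map φ.toMonoidHom =
      Cfsg.Agent.Nodes.WittModel.X (KInstSp.model n F) (Cfsg.Agent.Omega.HOneEnd.TwoInst.rhoC hn)) :
    ∃ Xb Ca Cb Qa Qb Ua : Subgroup G, SpK T G₀ R Xb Ca Cb Qa Qb Ua ∧ Nat.card Ua ≤ Nat.card R ^ 3 := by
  have : Fact (Nat.Prime 2) := ⟨Nat.prime_two⟩
  have hr := (Cfsg.Agent.Omega.HOneEnd.TwoInst.two_C (cs := cs) hn).rρ.1
  refine spK_of_endIn' h hn φ (ρ := Cfsg.Agent.Omega.HOneEnd.TwoInst.rhoC hn) (a := (⟨0, by omega⟩, true))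
    (b := (⟨1, by omega⟩, true)) (by simp) ?_ fun x => ?_
  · unfold Cfsg.Agent.Omega.HOneEnd.TwoInst.rhoC
    rw [Cfsg.Agent.Nodes.KindBC.ee_rt]
  · have h1 : (x : G) ∈ R ↔ φ x ∈ (R.subgroupOf G₀).map φ.toMonoidHom := by
      constructor
      · exact fun hx => ⟨x, mem_subgroupOf.2 hx, rfl⟩
      · rintro ⟨y, hy, e⟩
        have : y = x := φ.injective e
        rw [← this]
        exact mem_subgroupOf.1 hy
    rw [h1, hR, (Cfsg.Agent.KFacts.SysSp.sys_PSp n F cs).mem_X _ hr]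
    exact ⟨fun ⟨t, e⟩ => ⟨t, e.symm⟩, fun ⟨t, e⟩ => ⟨t, e.symm⟩⟩

theorem spK_of_id {W : Type*} [Group W] [Finite W] (cs : CoxeterSystem (CoxeterMatrix.B n) W) {G : Type*} [Group G]
    [Finite G] {T G₀ U R : Subgroup G} {v : G} (h : EndIn T G₀ U R v) (hn : 3 ≤ n) (φ : ↥G₀ ≃* PSp n F)
    (hR : (R.subgroupOf G₀).map φ.toMonoidHom =
      Cfsg.Agent.Nodes.WittModel.X (KInstSp.model n F) (Cfsg.Agent.Omega.HOneEnd.TwoInst.rhoC hn)) :
    ∃ Xb Ca Cb Qa Qb Ua : Subgroup G, SpK T G₀ R Xb Ca Cb Qa Qb Ua := by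
  obtain ⟨Xb, Ca, Cb, Qa, Qb, Ua, h1, -⟩ := spK_of_id' cs h hn φ hR
  exact ⟨Xb, Ca, Cb, Qa, Qb, Ua, h1⟩

end Cfsg.Agent.Omega.IId.M4

end

section


/-!
# The unmixed case of `WrMain4` (assembly)

Sockets:
* `ChainM4 K` : the chain of `Same4` over `T = stab M i`, `R = line M i`: `EndIn T G₀ U R v` and `Chain`;
* `IdM4` : THEOREM ID: `EndIn T G₀ U R v` implies `SpK` (`Sp_{2n}(q)`, `n ≥ 3`) or `IsFFour` (`F₄(q)`).

`noEnt` : `FFThm.Stmt`, `ChainM4 K`, `IdM4` imply that `Ent K S P M i j N` is impossible (`IId.NoEnt K`).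
-/

set_option autoImplicit false
set_option linter.unusedSectionVars false

namespace Cfsg.Agent.Omega.IId.M4

open Subgroup Cfsg Cfsg.Agent.ZN.ChoiceBase
open Cfsg.Agent.ZN (o2 zc zl)
open Cfsg.Agent.Omega.MinPar Cfsg.Agent.Omega.FFThm Cfsg.Agent.Omega.Frame
open Cfsg.Agent.Omega.All.HOne (Side FFourG)
open Cfsg.Agent.Omega.NatPair (ap NatMod)
open Cfsg.Agent.Omega.IId.FourSide
open Cfsg.Agent.Omega.HOneEnd (EndIn)

universe u

/-- The chain for `Ent`. -/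
def ChainM4 (K : Cls.{u}) : Prop :=
  ∀ (G : Type u) [Group G] [Finite G] (S : Sylow 2 G) (P : Subgroup G) (F : Type) [Field F] [Finite F]
    [CharP F 2] (M : NatK F (S : Subgroup G) P (zl (S : Subgroup G) P) ⊥ 2) (i j : Fin 2)
    (N : NatMod F (fac M i)), Ent K S P M i j N →
      ∃ (G₀ U : Subgroup G) (v : G), EndIn (stab M i) G₀ U (line M i) v ∧ Chain M i N G₀

/-- What is used of `G₀ = F₄(q)` and the root group `R`: the facts `FK` for the 2-group `T`, and `FFourG` for every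
2-group `S ≥ T` normalising `G₀` but not `R`, with `S ∩ N_G(R)` Sylow in `N_G(R)`. -/
structure IsFFour {G : Type u} [Group G] (T G₀ R : Subgroup G) : Prop where
  fk : ∃ Xb Ca Cb Qa Qb Ua Ub : Subgroup G, FK T G₀ R Xb Ca Cb Qa Qb Ua Ub
  ffg : ∀ S : Subgroup G, IsPGroup 2 S → T ≤ S → S ≤ normalizer (G₀ : Set G) →
    (∀ T' : Subgroup G, IsPGroup 2 T' → T' ≤ normalizer (R : Set G) →
      Nat.card T' ≤ Nat.card ↥(S ⊓ normalizer (R : Set G))) →
    (∃ t ∈ S, t ∉ normalizer (R : Set G)) →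
    ∃ Cs Cl Xl Qs Ql Us Ul : Subgroup G, FFourG S (S ⊓ normalizer (R : Set G)) (S ⊓ G₀)
      (normalizer (G₀ : Set G)) Cs Cl R Xl Qs Ql Us Ul

/-- THEOREM ID in the form of `WrMain4`. -/
def IdM4 : Prop :=
  ∀ (G : Type u) [Group G] [Finite G] (T G₀ U R : Subgroup G) (v : G), EndIn T G₀ U R v →
    (∃ Xb Ca Cb Qa Qb Ua : Subgroup G, SpK T G₀ R Xb Ca Cb Qa Qb Ua) ∨ IsFFour T G₀ R

section main

variable {G : Type u} [Group G] [Finite G] {F : Type} [Field F] [Finite F] [CharP F 2] {S : Sylow 2 G}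
  {P : Subgroup G} {K : Cls.{u}} {M : NatK F (S : Subgroup G) P (zl (S : Subgroup G) P) ⊥ 2} {i j : Fin 2}
  {N : NatMod F (fac M i)}

/-- `F₄(q)` is impossible. -/
theorem not_ffour (hFF : FFThm.Stmt.{u}) (h : Ent K S P M i j N) {G₀ U : Subgroup G} {v : G}
    (e : EndIn (stab M i) G₀ U (line M i) v) (c : Chain M i N G₀) (f : IsFFour (stab M i) G₀ (line M i)) : False := by
  have hfact : Fact (Nat.Prime 2) := ⟨Nat.prime_two⟩
  obtain ⟨Xb, Ca, Cb, Qa, Qb, Ua, Ub, k⟩ := f.fk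
  have hcard := (h.four.two h.ne).card
  have hTS : stab M i ≤ (S : Subgroup G) := stab_le M i
  have h2 := Two.two_cosets hTS hcard
  obtain ⟨s, hs, hn⟩ := Two.exists_not_mem hTS hcard
  obtain ⟨hsG, -⟩ := h.graph c k hs hn
  obtain ⟨r, hrz, hr, hr1⟩ := h.sylN.exists_z k.side_a
  have hsr : s * r * s⁻¹ ∉ line M i := (h.vec c hs hn hr hrz hr1).2.2.1
  have hTR : stab M i ≤ normalizer (line M i : Set G) := stab_normalizes_line M h.four.le i
  have hsR : s ∉ normalizer (line M i : Set G) := fun h0 => hsr ((mem_normalizer_iff.1 h0 r).1 hr)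
  -- every element of `S` lies in `T` or in `sT`
  have hcos : ∀ t ∈ (S : Subgroup G), t ∉ stab M i → s⁻¹ * t ∈ stab M i := fun t ht ht1 => h2 s hs t ht hn ht1
  have hSG : (S : Subgroup G) ≤ normalizer (G₀ : Set G) := by
    intro t ht
    by_cases ht1 : t ∈ stab M i
    · exact e.S_G₀ ht1
    · have e1 : t = s * (s⁻¹ * t) := by group
      rw [e1]
      exact mul_mem hsG (e.S_G₀ (hcos t ht ht1))
  have hST : (S : Subgroup G) ⊓ normalizer (line M i : Set G) = stab M i := by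
    refine le_antisymm ?_ (le_inf hTS hTR)
    rintro t ⟨ht, htR⟩
    by_contra ht1
    apply hsR
    have e1 : s = t * (s⁻¹ * t)⁻¹ := by group
    rw [e1]
    exact mul_mem htR (inv_mem (hTR (hcos t ht ht1)))
  have hsyl : ∀ T' : Subgroup G, IsPGroup 2 T' → T' ≤ normalizer (line M i : Set G) →
      Nat.card T' ≤ Nat.card ↥((S : Subgroup G) ⊓ normalizer (line M i : Set G)) := by
    intro T' hT' hle
    rw [hST]
    exact Nat.le_of_dvd Nat.card_pos (SideOf.card_dvd_of hTR h.four.syl hT' hle)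
  obtain ⟨Cs, Cl, Xl, Qs, Ql, Us, Ul, D⟩ := f.ffg S S.isPGroup' hTS hSG hsyl ⟨s, hs, hsR⟩
  have htop := D.top hFF h.four.c2T h.hyp.allIn h.hyp.full
  -- `G₀ = G`
  have hsim := h.hyp.ctx.simple
  have hnorm : G₀.Normal := normalizer_eq_top_iff.mp htop
  have hG₀ : G₀ = ⊤ := hnorm.eq_bot_or_eq_top.resolve_left fun h0 => by
    have h1 := c.simple
    rw [h0] at h1
    obtain ⟨⟨x, y, hxy⟩⟩ := h1.toNontrivial
    exact hxy (Subsingleton.elim x y)
  -- `T = U` is a Sylow 2-subgroup of `G`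
  have hU : stab M i = U := by
    have h1 := e.S_inf
    rwa [hG₀, inf_top_eq] at h1
  have hodd := e.odd
  rw [← hU, hG₀, relIndex_top_right, ← Nat.not_even_iff_odd, even_iff_two_dvd] at hodd
  apply hodd
  have h3 : (stab M i).relIndex (S : Subgroup G) = 2 := by
    have h4 := Half.card_mul_relIndex hTS
    rw [hcard] at h4
    have h5 : 0 < Nat.card (stab M i) := Nat.card_pos
    rw [mul_comm 2] at h4
    exact Nat.eq_of_mul_eq_mul_left h5 h4
  exact (dvd_of_eq h3.symm).trans (relIndex_dvd_index_of_le hTS)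

end main

/-- **The unmixed case of `WrMain4`** (literally `IId.NoEnt K`). -/
theorem noEnt {K : Cls.{u}} (hFF : FFThm.Stmt.{u}) (hch : ChainM4 K) (hid : IdM4.{u}) :
    ∀ (G : Type u) [Group G] [Finite G] (S : Sylow 2 G) (P : Subgroup G) (F : Type) [Field F] [Finite F]
      [CharP F 2] (M : NatK F (S : Subgroup G) P (zl (S : Subgroup G) P) ⊥ 2) (i j : Fin 2)
      (N : NatMod F (fac M i)), ¬ Ent K S P M i j N := by
  intro G _ _ S P F _ _ _ M i j N h
  obtain ⟨G₀, U, v, e, c⟩ := hch G S P F M i j N h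
  rcases hid G _ _ _ _ _ e with ⟨_, _, _, _, _, _, k⟩ | f
  · exact h.not_sp c k
  · exact not_ffour hFF h e c f

end Cfsg.Agent.Omega.IId.M4

end

section


/-!
# WrMain4: THEOREM ID in the form of `Main.lean`

`idM4 : IdM4`.
-/

set_option autoImplicit false

namespace Cfsg.Agent.Omega.IId.M4

open Subgroup Cfsg
open Cfsg.Agent.Omega.HOneEnd (EndIn)
open Cfsg.Agent.Omega.HOneEnd.ThmId (thm_id)

universe u

/-- a 2-group containing `T` meets `G₀` in `U` -/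
theorem inf_eq_of_endIn {G : Type*} [Group G] {T G₀ U R : Subgroup G} {v : G} (h : EndIn T G₀ U R v)
    {S : Subgroup G} (hS : IsPGroup 2 S) (hTS : T ≤ S) : S ⊓ G₀ = U := by
  have : Fact (Nat.Prime 2) := ⟨Nat.prime_two⟩
  have hUT : U ≤ T := by rw [← h.S_inf]; exact inf_le_left
  have hUG : U ≤ G₀ := by rw [← h.S_inf]; exact inf_le_right
  have hle : U ≤ S ⊓ G₀ := le_inf (hUT.trans hTS) hUG
  refine le_antisymm ?_ hle
  have h1 : U.relIndex (S ⊓ G₀) ∣ U.relIndex G₀ :=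
    ⟨_, (Subgroup.relIndex_mul_relIndex U (S ⊓ G₀) G₀ hle inf_le_right).symm⟩
  have h2 : Odd (U.relIndex (S ⊓ G₀)) := Odd.of_dvd_nat h.odd h1
  have h5 : IsPGroup 2 ↥(S ⊓ G₀) := hS.to_le inf_le_left
  by_cases hi : U.relIndex (S ⊓ G₀) = 0
  · rw [hi] at h2
    exact absurd h2 (by decide)
  have h3 : U.relIndex (S ⊓ G₀) = 1 := by
    have : (U.subgroupOf (S ⊓ G₀)).FiniteIndex := ⟨hi⟩
    obtain ⟨k, hk⟩ := h5.index (U.subgroupOf (S ⊓ G₀))
    have h4 : U.relIndex (S ⊓ G₀) = 2 ^ k := hk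
    rw [h4] at h2 ⊢
    rcases k with _ | k
    · rfl
    · exfalso
      rw [pow_succ] at h2
      exact (Nat.not_even_iff_odd.2 h2) (even_iff_two_dvd.2 ⟨2 ^ k, by ring⟩)
  exact Subgroup.relIndex_eq_one.1 h3

/-- **THEOREM ID in the form of `WrMain4`.** -/
theorem idM4 : IdM4.{u} := by
  intro G _ _ T G₀ U R v h
  have hR : R ≤ G₀ := h.R_U.trans (by rw [← h.S_inf]; exact inf_le_right)
  rcases thm_id h with ⟨F, i1, i2, i3, n, hn, φ, -, e2⟩ | ⟨K, i1, i2, i3, φ, e1, s, hs, e2⟩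
  · left
    have hW : Finite (CoxeterMatrix.B n).Group := Cfsg.Agent.Nodes.TypeC.finite_W (CoxeterMatrix.B n).toCoxeterSystem
    exact spK_of_id (CoxeterMatrix.B n).toCoxeterSystem h hn φ e2
  · right
    refine ⟨?_, fun S hS hTS hSG hsyl hsw => ?_⟩
    · exact Cfsg.Agent.Omega.HOneEnd.FFour.fk_of φ h.S_two h.S_G₀ h.S_R hR h.cent (by rw [h.S_inf]; exact e1) hs e2
    · refine Cfsg.Agent.Omega.HOneEnd.FFour.ffourG_of φ hS hSG hR h.cent ?_ hs e2 h.N_R hsyl hsw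
      rw [inf_eq_of_endIn h hS hTS]
      exact e1

end Cfsg.Agent.Omega.IId.M4

end

section


/-!
# `BigU4`: `TypU` for `G₀ ≅ Sp_2n(q)`, `q` even, `n ≥ 3` (helper38)

* `typ_US_N` : every element of `U_s` is conjugate into `Z` by an element normalising `X_12`;
* `typU` : `TypU T ι.range X_12 U_s` over `Hyp0 ι T`;
* `exists_spKU`, `spKU_of_endIn`, `spKU_of_id` : `SpK` together with `TypU`.
-/

set_option autoImplicit false
set_option linter.unusedSectionVars false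

namespace Cfsg.Agent.Omega.IId.TypUSp

open Cfsg Cfsg.Agent.ClassicalGeometry.SympBasic Cfsg.Agent.ClassicalGeometry.SympAutSemi
open Cfsg.Agent.OddHalf.SpN Cfsg.Agent.OddHalf.SpN.Out
open Subgroup
open Cfsg.Agent.Nodes.TypeC Cfsg.Agent.TitsThree Cfsg.Agent.TitsThree.Siegel
open Cfsg.Agent.KFacts.SysSp (eSp)
open Cfsg.Agent.Omega.All.SpN (Hyp0 C0 D0 QS US UL i0 i1 d01 exists_US w01 w01_0 w01_1 tor conj_zz_tor)
open Cfsg.Agent.Omega.HOneEnd.SpIota (iota iota_inj iota_range mem_X12_of_alt alt_sx eSp_eq cv dj_cv)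
open Cfsg.Agent.Omega.HOneEnd (EndIn)
open Cfsg.Agent.Omega.IId.Cv (TypU)
open Cfsg.Agent.Omega.IId.M4 (SpK spK card_X12 card_US exists_hyp0 R_eq0)

variable {n : ℕ} {F : Type*} [Field F] [Finite F] [CharP F 2] {hn : 3 ≤ n}

local notation "sY" => Cfsg.Agent.OddHalf.SpN.sy

/-- `g` normalises `X_12` -/
def Nx (hn : 3 ≤ n) (g : Sy n F) : Prop := ∀ a : F, ∃ a' : F, g * zz hn a 0 * g⁻¹ = zz hn a' 0

theorem Nx.one : Nx hn (1 : Sy n F) := fun a => ⟨a, by group⟩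

theorem Nx.mul {g g' : Sy n F} (h : Nx hn g) (h' : Nx hn g') : Nx hn (g * g') := by
  intro a
  obtain ⟨a', ha'⟩ := h' a
  obtain ⟨a'', ha''⟩ := h a'
  refine ⟨a'', ?_⟩
  rw [← ha'', ← ha']
  group

theorem Nx.tor (l0 l1 : Fˣ) : Nx hn (tor hn l0 l1) := fun a => ⟨l0 * l1 * a, by
  rw [conj_zz_tor, mul_zero]⟩

theorem zz_eq0' (a : F) : zz hn a 0 = sx (i0 hn) (i1 hn) a := Cfsg.Agent.Omega.All.SpN.zz_eq0 a

theorem Nx.x (s : F) : Nx hn (sx (neg (i0 hn)) (i1 hn) s)⁻¹ := fun a => ⟨a, by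
  have c1 : Commute (sx (i0 hn) (i1 hn) a) (sx (neg (i0 hn)) (i1 hn) s) := sx_comm' _ _
  rw [zz_eq0', inv_inv, mul_assoc, c1.eq]
  group⟩

theorem Nx.w : Nx hn (sw (w01 hn) : Sy n F) := fun a => ⟨a, by
  rw [zz_eq0', sw_sx, w01_0, w01_1, sx_symm]⟩

theorem Nx.norm {G : Type*} [Group G] [Finite G] {ι : Sy n F →* G} {g : Sy n F} (h : Nx hn g) :
    ι g ∈ normalizer (((X12 hn).map ι : Subgroup G) : Set G) := by
  have h1 : ∀ x ∈ (X12 hn).map ι, ι g * x * (ι g)⁻¹ ∈ (X12 hn).map ι := by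
    rintro _ ⟨_, ⟨a, rfl⟩, rfl⟩
    obtain ⟨a', ha'⟩ := h a
    exact ⟨_, ⟨a', rfl⟩, by rw [← ha', map_mul, map_mul, map_inv]⟩
  have h2 : ((X12 hn).map ι).map (MulAut.conj (ι g)).toMonoidHom = (X12 hn).map ι := by
    apply Subgroup.eq_of_le_of_card_ge
    · rintro _ ⟨x, hx, rfl⟩
      exact h1 x hx
    · exact le_of_eq (Nat.card_congr
        (((X12 hn).map ι).equivMapOfInjective _ (MulAut.conj (ι g)).injective).toEquiv)
  rw [mem_normalizer_iff]
  intro x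
  refine ⟨h1 x, fun hx => ?_⟩
  rw [← h2] at hx
  obtain ⟨y, hy, e⟩ := hx
  have : y = x := (MulAut.conj (ι g)).injective e
  rwa [← this]

variable {A : Sy n F}

theorem typ_zz_N {Z : Subgroup (Sy n F)} {a0 b0 : F} (ha0 : a0 ≠ 0) (hb0 : b0 ≠ 0) (h1 : zz hn a0 0 ∈ Z)
    (h2 : zz hn 0 b0 ∈ Z) (a b : F) : ∃ g : Sy n F, Nx hn g ∧ g * zz hn a b * g⁻¹ ∈ Z := by
  have h3 : zz hn a0 b0 ∈ Z := by
    have := mul_mem h1 h2
    rwa [zz_mul, add_zero, zero_add] at this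
  by_cases hb : b = 0
  · subst hb
    by_cases ha : a = 0
    · subst ha
      exact ⟨1, Nx.one, by rw [zz_zero]; simp [one_mem]⟩
    · refine ⟨tor hn (Units.mk0 (a0 / a) (div_ne_zero ha0 ha)) 1, Nx.tor _ _, ?_⟩
      rw [conj_zz_tor, Units.val_mk0, Units.val_one, mul_one, mul_zero, div_mul_cancel₀ _ ha]
      exact h1
  · obtain ⟨l, hl⟩ := exists_sqrt (F := F) (b0 / b)
    have hl0 : l ≠ 0 := by
      rintro rfl
      rw [mul_zero] at hl
      exact div_ne_zero hb0 hb hl.symm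
    have e : l ^ 2 * b = b0 := by rw [pow_two, hl, div_mul_cancel₀ _ hb]
    by_cases ha : a = 0
    · subst ha
      refine ⟨tor hn (Units.mk0 l hl0) 1, Nx.tor _ _, ?_⟩
      rw [conj_zz_tor, Units.val_mk0, mul_zero, e]
      exact h2
    · refine ⟨tor hn (Units.mk0 l hl0) (Units.mk0 (a0 / (l * a)) (div_ne_zero ha0 (mul_ne_zero hl0 ha))),
        Nx.tor _ _, ?_⟩
      rw [conj_zz_tor, Units.val_mk0, Units.val_mk0, e]
      have e' : l * (a0 / (l * a)) * a = a0 := by field_simp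
      rw [e']
      exact h3

theorem typ_US_N {Z : Subgroup (Sy n F)} {a0 b0 : F} (ha0 : a0 ≠ 0) (hb0 : b0 ≠ 0) (h1 : zz hn a0 0 ∈ Z)
    (h2 : zz hn 0 b0 ∈ Z) (hA : A ∈ US (i0 hn) (i1 hn)) : ∃ g : Sy n F, Nx hn g ∧ g * A * g⁻¹ ∈ Z := by
  obtain ⟨a, b, c, rfl⟩ := exists_US (d01 hn) hA
  have key : ∀ a b c : F, a ≠ 0 → ∃ g : Sy n F, Nx hn g ∧
      g * (sx (i0 hn) (i1 hn) c * sY (i0 hn) a * sY (i1 hn) b) * g⁻¹ ∈ Z := by
    intro a b c ha
    obtain ⟨s, hs⟩ := exists_sqrt (F := F) (b / a)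
    have hs' : a * s ^ 2 = b := by rw [pow_two, hs, mul_div_cancel₀ _ ha]
    obtain ⟨g, hgN, hg⟩ := typ_zz_N ha0 hb0 h1 h2 (c + a * s) a
    have hd := d01 hn
    have hd' : Dj (neg (i0 hn)) (i1 hn) := dj_neg_left.2 hd
    set x := sx (neg (i0 hn)) (i1 hn) s with hx
    have r1 : x⁻¹ * sY (i0 hn) a * x = sx (i0 hn) (i1 hn) (a * s) * sY (i1 hn) b * sY (i0 hn) a := by
      have h := sy_rel hd a s
      rw [hs', ← hx] at h
      have c1 : Commute (sx (i0 hn) (i1 hn) (a * s)) x := sx_comm' _ _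
      have c2 : Commute (sY (i1 hn) b) x := sy_sx_comm
        (fun e => hd.1 (OddHalf.SpN.neg_inj.1 e)) (fun e => (ne_neg (i1 hn)) e) _ _
      have c3 : Commute (sx (i0 hn) (i1 hn) (a * s) * sY (i1 hn) b) x := c1.mul_left c2
      calc x⁻¹ * sY (i0 hn) a * x = x⁻¹ * (sY (i0 hn) a * x) := by group
        _ = x⁻¹ * ((sx (i0 hn) (i1 hn) (a * s) * sY (i1 hn) b) * x * sY (i0 hn) a) := by rw [h]; group
        _ = x⁻¹ * (x * (sx (i0 hn) (i1 hn) (a * s) * sY (i1 hn) b) * sY (i0 hn) a) := by rw [c3.eq]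
        _ = _ := by group
    have r2 : x⁻¹ * sx (i0 hn) (i1 hn) c * x = sx (i0 hn) (i1 hn) c := by
      have c1 : Commute (sx (i0 hn) (i1 hn) c) x := sx_comm' _ _
      rw [mul_assoc, c1.eq]; group
    have r3 : x⁻¹ * sY (i1 hn) b * x = sY (i1 hn) b := by
      have c2 : Commute (sY (i1 hn) b) x := sy_sx_comm
        (fun e => hd.1 (OddHalf.SpN.neg_inj.1 e)) (fun e => (ne_neg (i1 hn)) e) _ _
      rw [mul_assoc, c2.eq]; group
    refine ⟨g * x⁻¹, hgN.mul (Nx.x s), ?_⟩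
    have e : g * x⁻¹ * (sx (i0 hn) (i1 hn) c * sY (i0 hn) a * sY (i1 hn) b) * (g * x⁻¹)⁻¹ =
        g * ((x⁻¹ * sx (i0 hn) (i1 hn) c * x) * (x⁻¹ * sY (i0 hn) a * x) * (x⁻¹ * sY (i1 hn) b * x)) * g⁻¹ := by
      group
    have c4 : Commute (sY (i1 hn) b) (sY (i0 hn) a) := sy_comm (fun e => hd.2 e) _ _
    have e2 : sx (i0 hn) (i1 hn) c * (sx (i0 hn) (i1 hn) (a * s) * sY (i1 hn) b * sY (i0 hn) a) * sY (i1 hn) b =
        zz hn (c + a * s) a := by
      rw [Cfsg.Agent.Omega.All.SpN.zz_eq, sx_add]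
      calc sx (i0 hn) (i1 hn) c * (sx (i0 hn) (i1 hn) (a * s) * sY (i1 hn) b * sY (i0 hn) a) * sY (i1 hn) b
          = sx (i0 hn) (i1 hn) c * sx (i0 hn) (i1 hn) (a * s) * (sY (i1 hn) b * sY (i0 hn) a) * sY (i1 hn) b := by
            group
        _ = sx (i0 hn) (i1 hn) c * sx (i0 hn) (i1 hn) (a * s) * (sY (i0 hn) a * sY (i1 hn) b) * sY (i1 hn) b := by
            rw [c4.eq]
        _ = sx (i0 hn) (i1 hn) c * sx (i0 hn) (i1 hn) (a * s) * sY (i0 hn) a * (sY (i1 hn) b * sY (i1 hn) b) := by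
            group
        _ = _ := by rw [sy_sq, mul_one]
    rw [e, r1, r2, r3, e2]
    exact hg
  by_cases ha : a = 0
  · by_cases hb : b = 0
    · rw [ha, hb, sy_zero, sy_zero, mul_one, mul_one, ← Cfsg.Agent.Omega.All.SpN.zz_eq0]
      exact typ_zz_N ha0 hb0 h1 h2 c 0
    · obtain ⟨g, hgN, hg⟩ := key b a c hb
      refine ⟨g * sw (w01 hn), hgN.mul Nx.w, ?_⟩
      have e : g * sw (w01 hn) * (sx (i0 hn) (i1 hn) c * sY (i0 hn) a * sY (i1 hn) b) * (g * sw (w01 hn))⁻¹ =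
          g * ((sw (w01 hn) * sx (i0 hn) (i1 hn) c * (sw (w01 hn))⁻¹) *
            ((sw (w01 hn) * sY (i0 hn) a * (sw (w01 hn))⁻¹) * (sw (w01 hn) * sY (i1 hn) b * (sw (w01 hn))⁻¹))) *
            g⁻¹ := by group
      have c4 : Commute (sY (i1 hn) a) (sY (i0 hn) b) := sy_comm (fun e => (d01 hn).2 e) _ _
      rw [e, sw_sx, sw_sy, sw_sy, w01_0, w01_1, sx_symm, c4.eq, ← mul_assoc (sx (i0 hn) (i1 hn) c)]
      exact hg
  · exact key a b c ha

open Cfsg.Agent.ZN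

/-- **`TypU` over `Hyp0 ι T`.** -/
theorem typU {G : Type*} [Group G] [Finite G] {ι : Sy n F →* G} {T : Subgroup G} (H : Hyp0 ι T) (hn : 3 ≤ n) :
    TypU T ι.range ((X12 hn).map ι) ((US (i0 hn) (i1 hn)).map ι) := by
  intro u hu _
  obtain ⟨a, b, ha, hb, hza, hzb⟩ := H.exists_ab hn
  obtain ⟨A, hA, rfl⟩ := hu
  obtain ⟨g, hgN, hg⟩ := typ_US_N (Z := (zc T).comap ι) ha hb hza hzb hA
  exact ⟨ι g, H.range_le ⟨g, rfl⟩, hgN.norm, by rw [← map_inv, ← map_mul, ← map_mul]; exact hg⟩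

/-- **From `φ : G₀ ≃* PSp n F` to `SpK` and `TypU`** -/
theorem exists_spKU {G : Type*} [Group G] [Finite G] {T G₀ R : Subgroup G} (hT : IsPGroup 2 T) (hn : 3 ≤ n)
    (φ : ↥G₀ ≃* PSp n F) (hTG : T ≤ normalizer (G₀ : Set G)) (hcen : centralizer (G₀ : Set G) = ⊥)
    (hmax : ∀ P : Subgroup G, P ≤ G₀ → IsPGroup 2 P → T ⊓ G₀ ≤ P → P ≤ T) (hRT : R ≤ T ⊓ G₀)
    (hTR : T ⊓ G₀ ≤ centralizer (R : Set G)) {ρ : Fin n → ℤ} {a b : Fin n × Bool} (hab : a.1 ≠ b.1)
    (e : ee ρ = wt a + wt b) (hR : ∀ x : ↥G₀, (x : G) ∈ R ↔ ∃ t : F, φ x = eSp n F ρ t) :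
    ∃ Xb Ca Cb Qa Qb Ua : Subgroup G, SpK T G₀ R Xb Ca Cb Qa Qb Ua ∧ Nat.card Ua ≤ Nat.card R ^ 3 ∧
      TypU T G₀ R Ua := by
  have hr₀ := iota_range φ
  have hcen' : ∀ c : G, (∀ A, iota φ A * c = c * iota φ A) → c = 1 := by
    intro c hc
    have h1 : c ∈ centralizer (G₀ : Set G) := by
      rw [Subgroup.mem_centralizer_iff]
      intro g hg
      rw [SetLike.mem_coe, ← hr₀] at hg
      obtain ⟨A, rfl⟩ := hg
      exact hc A
    rwa [hcen, Subgroup.mem_bot] at h1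
  obtain ⟨ι, y, hy, hιe, hr, H⟩ := exists_hyp0 (iota_inj φ) hcen' hT (by rw [hr₀]; exact hTG)
    (by rw [hr₀]; exact hmax)
  have hRι : ∀ x, x ∈ R ↔ ∃ t : F, x = iota φ (sx (cv a) (cv b) t) := by
    intro x
    constructor
    · intro hx
      obtain ⟨t, ht⟩ := (hR ⟨x, (hRT hx).2⟩).1 hx
      refine ⟨t, ?_⟩
      rw [eSp_eq hab e] at ht
      show x = ((φ.symm (Cfsg.Agent.Omega.HOneEnd.SpIota.toP n F _) : ↥G₀) : G)
      rw [← ht, MulEquiv.symm_apply_apply]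
    · rintro ⟨t, rfl⟩
      exact (hR (φ.symm (Cfsg.Agent.Omega.HOneEnd.SpIota.toP n F _))).2
        ⟨t, by rw [MulEquiv.apply_symm_apply, eSp_eq hab e]⟩
  have hrG : ι.range = G₀ := hr.trans hr₀
  have hReq : R = (X12 hn).map ι := R_eq0 (iota_inj φ) hy hιe hr H hn (dj_cv hab) hRι
    (by rw [hrG]; exact hTR)
  have hD := spK H hn
  have hU := typU H hn
  rw [hrG, ← hReq] at hD
  rw [hrG, ← hReq] at hU
  refine ⟨_, _, _, _, _, _, hD, (card_US ι hn).trans (Nat.pow_le_pow_left ?_ 3), hU⟩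
  rw [hReq]
  exact card_X12 H.inj hn

/-- the same over `EndIn` -/
theorem spKU_of_endIn {G : Type*} [Group G] [Finite G] {T G₀ U R : Subgroup G} {v : G} (h : EndIn T G₀ U R v)
    (hn : 3 ≤ n) (φ : ↥G₀ ≃* PSp n F) {ρ : Fin n → ℤ} {a b : Fin n × Bool} (hab : a.1 ≠ b.1)
    (e : ee ρ = wt a + wt b) (hR : ∀ x : ↥G₀, (x : G) ∈ R ↔ ∃ t : F, φ x = eSp n F ρ t) :
    ∃ Xb Ca Cb Qa Qb Ua : Subgroup G, SpK T G₀ R Xb Ca Cb Qa Qb Ua ∧ Nat.card Ua ≤ Nat.card R ^ 3 ∧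
      TypU T G₀ R Ua := by
  have hUT : U ≤ T := by rw [← h.S_inf]; exact inf_le_left
  refine exists_spKU h.S_two hn φ h.S_G₀ h.cent (fun P hP hP2 hle => ?_) (by rw [h.S_inf]; exact h.R_U)
    (by rw [h.S_inf]; exact h.U_R) hab e hR
  rw [h.S_inf] at hle
  have h1 : U.relIndex P ∣ U.relIndex G₀ := by
    have := Subgroup.relIndex_mul_relIndex U P G₀ hle hP
    exact ⟨_, this.symm⟩
  have h2 : Odd (U.relIndex P) := Odd.of_dvd_nat h.odd h1
  have : Fact (Nat.Prime 2) := ⟨Nat.prime_two⟩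
  have h3 : U.relIndex P = 1 := by
    obtain ⟨k, hk⟩ := hP2.index (U.subgroupOf P)
    have h4 : U.relIndex P = 2 ^ k := hk
    rw [h4] at h2 ⊢
    rcases k with _ | k
    · rfl
    · exfalso
      rw [pow_succ] at h2
      exact (Nat.not_even_iff_odd.2 h2) (even_iff_two_dvd.2 ⟨2 ^ k, by ring⟩)
  exact (Subgroup.relIndex_eq_one.1 h3).trans hUT

/-- the same with the literal output of THEOREM ID -/
theorem spKU_of_id {W : Type*} [Group W] [Finite W] (cs : CoxeterSystem (CoxeterMatrix.B n) W) {G : Type*} [Group G]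
    [Finite G] {T G₀ U R : Subgroup G} {v : G} (h : EndIn T G₀ U R v) (hn : 3 ≤ n) (φ : ↥G₀ ≃* PSp n F)
    (hR : (R.subgroupOf G₀).map φ.toMonoidHom =
      Cfsg.Agent.Nodes.WittModel.X (KInstSp.model n F) (Cfsg.Agent.Omega.HOneEnd.TwoInst.rhoC hn)) :
    ∃ Xb Ca Cb Qa Qb Ua : Subgroup G, SpK T G₀ R Xb Ca Cb Qa Qb Ua ∧ Nat.card Ua ≤ Nat.card R ^ 3 ∧
      TypU T G₀ R Ua := by
  have : Fact (Nat.Prime 2) := ⟨Nat.prime_two⟩
  have hr := (Cfsg.Agent.Omega.HOneEnd.TwoInst.two_C (cs := cs) hn).rρ.1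
  refine spKU_of_endIn h hn φ (ρ := Cfsg.Agent.Omega.HOneEnd.TwoInst.rhoC hn) (a := (⟨0, by omega⟩, true))
    (b := (⟨1, by omega⟩, true)) (by simp) ?_ fun x => ?_
  · unfold Cfsg.Agent.Omega.HOneEnd.TwoInst.rhoC
    rw [Cfsg.Agent.Nodes.KindBC.ee_rt]
  · have h1 : (x : G) ∈ R ↔ φ x ∈ (R.subgroupOf G₀).map φ.toMonoidHom := by
      constructor
      · exact fun hx => ⟨x, mem_subgroupOf.2 hx, rfl⟩
      · rintro ⟨y, hy, e⟩
        have : y = x := φ.injective e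
        rw [← this]
        exact mem_subgroupOf.1 hy
    rw [h1, hR, (Cfsg.Agent.KFacts.SysSp.sys_PSp n F cs).mem_X _ hr]
    exact ⟨fun ⟨t, e⟩ => ⟨t, e.symm⟩, fun ⟨t, e⟩ => ⟨t, e.symm⟩⟩

end Cfsg.Agent.Omega.IId.TypUSp

end

end

-- merged: Cfsg.Agent.Mrg.Omega.HOneEnd.FFourFKb
section

/-!
# WrMain4, section 6: the K-facts `FK` for `F₄(q)`, with two facts about `X_r`

`fk_of'` : `fk_of` together with
* (cb) `C_{G₀}(y) ≤ N_G(X_r)` for `1 ≠ y ∈ X_r`,
* (card) `|X_r| = |X_s|`.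
-/

set_option autoImplicit false
set_option Elab.async false
set_option linter.unusedSectionVars false

namespace Cfsg.Agent.Omega.HOneEnd.FFour

open CoxeterSystem Cfsg.Agent.ChevalleyStructure.CoxeterGeom Cfsg.Agent.Tits.Roots Cfsg.Agent.Tits.Core
open Cfsg Cfsg.Lie Cfsg.Agent.ChevalleyStructure Cfsg.Agent.ChevalleyStructure.Elts
  Cfsg.Agent.ChevalleyStructure.RootVec Cfsg.Agent.ChevalleyStructure.CoxeterGeomTypes
open Cfsg.Agent.Nodes Cfsg.Agent.Nodes.Reps Cfsg.Agent.Nodes.BNOf Cfsg.Agent.Nodes.RGDChev Cfsg.Agent.Nodes.Coroot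
  Cfsg.Agent.Nodes.KindF Cfsg.Agent.KFacts.ChevTwo Cfsg.Agent.KFacts.ChevTwoTab
  Cfsg.Agent.KFacts.ChevTwoInst Cfsg.Agent.KFacts.RgdTI Cfsg.Agent.KFacts.RgdOdd
  Cfsg.Agent.KFacts.F4Star Cfsg.Agent.KFacts.F4Cent Cfsg.Agent.KFacts.F4Pair Cfsg.Agent.KFacts.F4Torus
open Subgroup Cfsg.Agent.Omega.All.HOne
open Cfsg.Agent.Omega.IId.M4 (FK)

universe u v

variable {K : Type v} [Field K] [Finite K] [CharP K 2] {G : Type u} [Group G] {j : ↥(chevF4.group K) →* G}

/-- `|X_r| = |K|` -/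
theorem card_XF {r : Fin 4 → ℤ} (hr : IsRoot cF isType.isCartan r) : Nat.card (XF K r) = Nat.card K := by
  have hW : Finite CoxeterMatrix.F₄.Group := finite_W isType cF
  have D := (sysF (K := K) cF).data
  refine (Nat.card_congr (Equiv.ofBijective
    (fun t : K => (⟨eF K r t, (mem_XF_iff cF hr).2 ⟨t, rfl⟩⟩ : ↥(XF K r))) ⟨fun t u h => ?_, ?_⟩)).symm
  · have h1 : eF K r t = eF K r u := Subtype.ext_iff.1 h
    have h2 := D.add r hr (t - u) u
    rw [sub_add_cancel, h1] at h2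
    exact sub_eq_zero.1 (D.inj r hr _ (mul_eq_right.1 h2.symm))
  · rintro ⟨x, hx⟩
    obtain ⟨t, rfl⟩ := (mem_XF_iff cF hr).1 hx
    exact ⟨t, rfl⟩

theorem card_XG (hj : Function.Injective j) {r : Fin 4 → ℤ} (hr : Dom r) : Nat.card (XG j r) = Nat.card K := by
  rw [XG, Nat.card_congr ((XF K r).equivMapOfInjective j hj).toEquiv.symm, card_XF hr.root]

variable {G₀ : Subgroup G}

/-- **`fk_of` with `C_{G₀}(y) ≤ N_G(X_r)` for `1 ≠ y ∈ X_r` and `|X_r| = |X_s|`.** -/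
theorem fk_of' [Finite G] (φ : ↥G₀ ≃* ↥(chevF4.group K)) {T R : Subgroup G} (hT : IsPGroup 2 T)
    (hTG : T ≤ normalizer (G₀ : Set G)) (hTR : T ≤ normalizer (R : Set G)) (hR : R ≤ G₀)
    (hc : centralizer (G₀ : Set G) = ⊥)
    (hU : ((T ⊓ G₀).subgroupOf G₀).map φ.toMonoidHom = RGD.Sup (XF K) (RGD.Pos cF isType.isCartan))
    {s : Fin 4 → ℤ} (hs : Dom s) (hX : (R.subgroupOf G₀).map φ.toMonoidHom = XF K s) :
    ∃ Xb Ca Cb Qa Qb Ua Ub : Subgroup G, FK T G₀ R Xb Ca Cb Qa Qb Ua Ub ∧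
      (∀ y ∈ Xb, y ≠ 1 → G₀ ⊓ centralizer {y} ≤ normalizer (Xb : Set G)) ∧ Nat.card Xb = Nat.card R := by
  have E := emb_of φ hT hTG hTR hR hc hU hs hX
  obtain ⟨r, hr, hrs⟩ := exists_other hs
  have hXR := XG_emb φ hR hX
  have hj : (emb φ).range = G₀ := emb_range φ
  have E' : Emb (emb φ) T (normalizer ((emb φ).range : Set G)) := by rw [hj]; exact E
  have h1 := E'.fk hr hs hrs
  rw [hj, hXR] at h1
  refine ⟨_, _, _, _, _, _, _, h1, fun y hy hy1 g hg => ?_, ?_⟩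
  · refine norm_XG (emb_inj φ) hr hy hy1 ?_ (mem_centralizer_singleton_iff.1 hg.2)
    rw [hj]
    exact le_normalizer hg.1
  · rw [card_XG (emb_inj φ) hr, ← hXR, card_XG (emb_inj φ) hs]

end Cfsg.Agent.Omega.HOneEnd.FFour

end

-- merged: Cfsg.Agent.Mrg.Omega.IId.BigFour.NoBigK
section

/-!
# II.d, `WrBigFour`: the K-facts for `NoBigEnt` (helper43)

`NK T G₀ Xa Xb` : `Z(T ∩ G₀) = X_a X_b`; `C_{G₀}(y) = C_{G₀}(X_b)` for `1 ≠ y ∈ X_b`; `|X_b| ≤ |X_a|`.

* `nk_sp`, `nk_ffour` : `Sp_{2n}(q)` (`X_a` short, `X_b` long), `F₄(q)` (the two dominant root groups);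
* **`idN`** : `EndIn T G₀ U R v ⟹ ∃ Xb, NK T G₀ R Xb`.
-/

set_option autoImplicit false
set_option linter.unusedSectionVars false

namespace Cfsg.Agent.Omega.IId.BigFour

open Cfsg Cfsg.Agent.ClassicalGeometry.SympBasic Cfsg.Agent.ClassicalGeometry.SympAutSemi
open Cfsg.Agent.OddHalf.SpN Cfsg.Agent.OddHalf.SpN.Out
open Subgroup
open Cfsg.Agent.Nodes.TypeC
open Cfsg.Agent.KFacts.SysSp (eSp)
open Cfsg.Agent.Omega.All.SpN (Hyp0 D0 i0 i1 zz_sub mem_D0_of_fix)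
open Cfsg.Agent.Omega.HOneEnd.SpIota (iota iota_inj iota_range eSp_eq cv dj_cv)
open Cfsg.Agent.Omega.HOneEnd (EndIn)
open Cfsg.Agent.Omega.HOneEnd.ThmId (thm_id)
open Cfsg.Agent.Omega.IId.M4 (exists_hyp0 R_eq0)

/-- The K-facts used for `NoBigEnt`. -/
structure NK {G : Type*} [Group G] (T G₀ Xa Xb : Subgroup G) : Prop where
  zU : ∀ z ∈ T ⊓ G₀, T ⊓ G₀ ≤ centralizer ({z} : Set G) → ∃ x ∈ Xa, ∃ y ∈ Xb, z = x * y
  mix : ∀ x ∈ Xa, ∀ y ∈ Xb, x ≠ 1 → y ≠ 1 → G₀ ⊓ centralizer ({x * y} : Set G) ≤ normalizer (Xa : Set G)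
  one : ∀ y ∈ Xb, y ≠ 1 → G₀ ⊓ centralizer ({y} : Set G) ≤ centralizer (Xb : Set G)
  card : Nat.card Xb ≤ Nat.card Xa

section sp

variable {n : ℕ} {F : Type*} [Field F] [CharP F 2]

/-- an element commuting with a long root element `≠ 1` fixes the vector -/
theorem fix_of_comm (hn : 3 ≤ n) {A : Sy n F} {b : F} (hb : b ≠ 0) (h : A * zz hn 0 b = zz hn 0 b * A) :
    rho n F A (be n F (i0 hn)) = be n F (i0 hn) := by
  have hA := SI.of_rho A
  have hc : ∀ v, rho n F A (rho n F (zz hn 0 b) v) = rho n F (zz hn 0 b) (rho n F A v) := by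
    intro v
    rw [← Equiv.Perm.mul_apply, ← Equiv.Perm.mul_apply, ← map_mul, ← map_mul, h]
  -- `A e₀ = c e₀` with `c = (A e_{-0})_{-0}`
  set w : Ix n → F := be n F (neg (i0 hn)) with hw
  have hw0 : w (neg (i0 hn)) = 1 := by rw [hw, be_apply, if_pos rfl]
  set c : F := rho n F A w (neg (i0 hn)) with hcdef
  have h1 : rho n F A (b • be n F (i0 hn)) = (b * c) • be n F (i0 hn) := by
    have e1 : rho n F (zz hn 0 b) w = w + b • be n F (i0 hn) := by
      have h2 := zz_sub hn 0 b w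
      rw [hw0, mul_one, zero_mul, zero_mul, zero_add, zero_smul, add_zero, sub_eq_iff_eq_add] at h2
      rw [h2, add_comm]
    have e2 : rho n F (zz hn 0 b) (rho n F A w) = rho n F A w + (b * c) • be n F (i0 hn) := by
      have h2 := zz_sub hn 0 b (rho n F A w)
      rw [zero_mul, zero_mul, zero_add, zero_smul, add_zero, sub_eq_iff_eq_add] at h2
      rw [h2, add_comm]
    have h3 := hc w
    rw [e1, e2, hA.add] at h3
    exact add_left_cancel h3
  have h2 : rho n F A (be n F (i0 hn)) = c • be n F (i0 hn) := by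
    have h3 := h1
    rw [hA.smul, mul_smul] at h3
    have h4 : b • rho n F A (be n F (i0 hn)) = b • (c • be n F (i0 hn)) := h3
    have h5 := congrArg (fun x => b⁻¹ • x) h4
    simpa only [smul_smul, inv_mul_cancel_left₀ hb, inv_mul_cancel₀ hb, one_smul] using h5
  have h3 := hA.form w (be n F (i0 hn))
  rw [h2, sympForm_smul_right, form_be, form_be, hw0] at h3
  have h4 : c * c = 1 := h3
  have h5 : c = 1 := by
    have h6 : (c - 1) * (c - 1) = 0 := by
      have e : (c - 1) * (c - 1) = c * c - 1 - 2 * (c - 1) := by ring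
      rw [e, h4, CharTwo.two_eq_zero, zero_mul, sub_self, sub_zero]
    rcases mul_eq_zero.1 h6 with h7 | h7 <;> exact sub_eq_zero.1 h7
  rw [h2, h5, one_smul]

theorem nk_sp [Finite F] {G : Type*} [Group G] [Finite G] {ι : Sy n F →* G} {T : Subgroup G} (H : Hyp0 ι T)
    (hn : 3 ≤ n) : NK T ι.range ((X12 hn).map ι) ((Y1 hn).map ι) where
  zU _ hz hc := H.zU hn hz hc
  mix _ hx _ hy hx1 _ := H.mix hn hx hy hx1
  one := by
    rintro _ ⟨_, ⟨b, rfl⟩, rfl⟩ hb1 _ ⟨⟨A, rfl⟩, hA⟩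
    have hb : b ≠ 0 := by
      rintro rfl
      exact hb1 (by rw [zz_zero, map_one])
    have h1 : A * zz hn 0 b = zz hn 0 b * A := by
      apply H.inj
      rw [map_mul, map_mul]
      exact mem_centralizer_singleton_iff.1 hA
    have h2 : ι A ∈ (D0 hn).map ι := ⟨A, mem_D0_of_fix (fix_of_comm hn hb h1), rfl⟩
    rw [H.D_eq hn] at h2
    exact h2.2
  card := by
    refine le_trans ?_ (M4.card_X12 H.inj hn)
    apply Nat.card_le_card_of_surjective (fun t : F => (⟨ι (zz hn 0 t), ⟨_, ⟨t, rfl⟩, rfl⟩⟩ : ↥((Y1 hn).map ι)))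
    rintro ⟨_, ⟨_, ⟨t, rfl⟩, rfl⟩⟩
    exact ⟨t, rfl⟩

/-- **`NK` for `φ : G₀ ≃* PSp n F`**, `R` a short root group -/
theorem exists_nk_sp [Finite F] {G : Type*} [Group G] [Finite G] {T G₀ U R : Subgroup G} {v : G}
    (h : EndIn T G₀ U R v) (hn : 3 ≤ n) (φ : ↥G₀ ≃* PSp n F) {ρ : Fin n → ℤ} {a b : Fin n × Bool} (hab : a.1 ≠ b.1)
    (e : ee ρ = wt a + wt b) (hR : ∀ x : ↥G₀, (x : G) ∈ R ↔ ∃ t : F, φ x = eSp n F ρ t) :
    ∃ Xb : Subgroup G, NK T G₀ R Xb := by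
  have hfact : Fact (Nat.Prime 2) := ⟨Nat.prime_two⟩
  have hUT : U ≤ T := by rw [← h.S_inf]; exact inf_le_left
  have hRT : R ≤ T ⊓ G₀ := by rw [h.S_inf]; exact h.R_U
  have hTR : T ⊓ G₀ ≤ centralizer (R : Set G) := by rw [h.S_inf]; exact h.U_R
  have hmax : ∀ P : Subgroup G, P ≤ G₀ → IsPGroup 2 P → T ⊓ G₀ ≤ P → P ≤ T := by
    intro P hP hP2 hle
    rw [h.S_inf] at hle
    have h1 : U.relIndex P ∣ U.relIndex G₀ := by
      have := Subgroup.relIndex_mul_relIndex U P G₀ hle hP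
      exact ⟨_, this.symm⟩
    have h2 : Odd (U.relIndex P) := Odd.of_dvd_nat h.odd h1
    have h3 : U.relIndex P = 1 := by
      obtain ⟨k, hk⟩ := hP2.index (U.subgroupOf P)
      have h4 : U.relIndex P = 2 ^ k := hk
      rw [h4] at h2 ⊢
      rcases k with _ | k
      · rfl
      · exfalso
        rw [pow_succ] at h2
        exact (Nat.not_even_iff_odd.2 h2) (even_iff_two_dvd.2 ⟨2 ^ k, by ring⟩)
    exact (Subgroup.relIndex_eq_one.1 h3).trans hUT
  have hr₀ := iota_range φ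
  have hcen' : ∀ c : G, (∀ A, iota φ A * c = c * iota φ A) → c = 1 := by
    intro c hc
    have h1 : c ∈ centralizer (G₀ : Set G) := by
      rw [Subgroup.mem_centralizer_iff]
      intro g hg
      rw [SetLike.mem_coe, ← hr₀] at hg
      obtain ⟨A, rfl⟩ := hg
      exact hc A
    rwa [h.cent, Subgroup.mem_bot] at h1
  obtain ⟨ι, y, hy, hιe, hr, H⟩ := exists_hyp0 (iota_inj φ) hcen' h.S_two (by rw [hr₀]; exact h.S_G₀)
    (by rw [hr₀]; exact hmax)
  have hRι : ∀ x, x ∈ R ↔ ∃ t : F, x = iota φ (sx (cv a) (cv b) t) := by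
    intro x
    constructor
    · intro hx
      obtain ⟨t, ht⟩ := (hR ⟨x, (hRT hx).2⟩).1 hx
      refine ⟨t, ?_⟩
      rw [eSp_eq hab e] at ht
      show x = ((φ.symm (Cfsg.Agent.Omega.HOneEnd.SpIota.toP n F _) : ↥G₀) : G)
      rw [← ht, MulEquiv.symm_apply_apply]
    · rintro ⟨t, rfl⟩
      exact (hR (φ.symm (Cfsg.Agent.Omega.HOneEnd.SpIota.toP n F _))).2
        ⟨t, by rw [MulEquiv.apply_symm_apply, eSp_eq hab e]⟩
  have hrG : ι.range = G₀ := hr.trans hr₀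
  have hReq : R = (X12 hn).map ι := R_eq0 (iota_inj φ) hy hιe hr H hn (dj_cv hab) hRι
    (by rw [hrG]; exact hTR)
  have hD := nk_sp H hn
  rw [hrG, ← hReq] at hD
  exact ⟨_, hD⟩

end sp

section ffour

open Cfsg.Agent.Omega.HOneEnd.FFour Cfsg.Agent.KFacts.F4Pair Cfsg.Agent.Nodes.KindF Cfsg.Lie
open Cfsg.Agent.KFacts.F4Perf Cfsg.Agent.Nodes.BNOf Cfsg.Agent.Nodes

variable {K : Type*} [Field K] [Finite K] [CharP K 2]

/-- **`NK` for `φ : G₀ ≃* F₄(K)`**, `R` a dominant root group -/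
theorem exists_nk_ffour {G : Type*} [Group G] [Finite G] {G₀ : Subgroup G} (φ : ↥G₀ ≃* ↥(chevF4.group K))
    {T R : Subgroup G} (hT : IsPGroup 2 T)
    (hTG : T ≤ normalizer (G₀ : Set G)) (hTR : T ≤ normalizer (R : Set G)) (hR : R ≤ G₀)
    (hc : centralizer (G₀ : Set G) = ⊥)
    (hU : ((T ⊓ G₀).subgroupOf G₀).map φ.toMonoidHom = RGD.Sup (XF K) (RGD.Pos cF isType.isCartan))
    {s : Fin 4 → ℤ} (hs : Dom s) (hX : (R.subgroupOf G₀).map φ.toMonoidHom = XF K s) :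
    ∃ Xb : Subgroup G, NK T G₀ R Xb := by
  have E := emb_of φ hT hTG hTR hR hc hU hs hX
  obtain ⟨r, hr, hrs⟩ := exists_other hs
  have hXR := XG_emb φ hR hX
  have hj : (emb φ).range = G₀ := emb_range φ
  have E' : Emb (emb φ) T (normalizer ((emb φ).range : Set G)) := by rw [hj]; exact E
  have h1 := E'.fk hr hs hrs
  have h2 := E'.CG_eq hr
  rw [hj] at h2
  rw [hj, hXR] at h1
  refine ⟨XG (emb φ) r, h1.zU, h1.mix, ?_, ?_⟩
  · rintro _ ⟨y, hy, rfl⟩ hy1 g ⟨hg, hgc⟩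
    rw [← hj] at hg
    obtain ⟨x, rfl⟩ := hg
    have hy1' : y ≠ 1 := fun h => hy1 (by rw [h, map_one])
    have h3 : emb φ x ∈ CG (emb φ) r := by
      refine ⟨x, cent_X cF hr.root hy hy1' (emb_inj φ ?_), rfl⟩
      rw [map_mul, map_mul]
      exact mem_centralizer_singleton_iff.1 hgc
    rw [h2] at h3
    exact h3.2
  · rw [card_XG (emb_inj φ) hr, ← hXR, card_XG (emb_inj φ) hs]

end ffour

/-- **THEOREM ID in the form of `NK`.** -/
theorem idN {G : Type*} [Group G] [Finite G] {T G₀ U R : Subgroup G} {v : G} (h : EndIn T G₀ U R v) :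
    ∃ Xb : Subgroup G, NK T G₀ R Xb := by
  have hfact : Fact (Nat.Prime 2) := ⟨Nat.prime_two⟩
  have hR : R ≤ G₀ := h.R_U.trans (by rw [← h.S_inf]; exact inf_le_right)
  rcases thm_id h with ⟨F, i1, i2, i3, n, hn, φ, -, e2⟩ | ⟨K, i1, i2, i3, φ, e1, s, hs, e2⟩
  · have hW : Finite (CoxeterMatrix.B n).Group := Cfsg.Agent.Nodes.TypeC.finite_W (CoxeterMatrix.B n).toCoxeterSystem
    have hr := (Cfsg.Agent.Omega.HOneEnd.TwoInst.two_C (cs := (CoxeterMatrix.B n).toCoxeterSystem) hn).rρ.1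
    refine exists_nk_sp h hn φ (ρ := Cfsg.Agent.Omega.HOneEnd.TwoInst.rhoC hn) (a := (⟨0, by omega⟩, true))
      (b := (⟨1, by omega⟩, true)) (by simp) ?_ fun x => ?_
    · unfold Cfsg.Agent.Omega.HOneEnd.TwoInst.rhoC
      rw [Cfsg.Agent.Nodes.KindBC.ee_rt]
    · have h1 : (x : G) ∈ R ↔ φ x ∈ (R.subgroupOf G₀).map φ.toMonoidHom := by
        constructor
        · exact fun hx => ⟨x, mem_subgroupOf.2 hx, rfl⟩
        · rintro ⟨y, hy, e⟩
          have : y = x := φ.injective e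
          rw [← this]
          exact mem_subgroupOf.1 hy
      rw [h1, e2, (Cfsg.Agent.KFacts.SysSp.sys_PSp n F (CoxeterMatrix.B n).toCoxeterSystem).mem_X _ hr]
      exact ⟨fun ⟨t, e⟩ => ⟨t, e.symm⟩, fun ⟨t, e⟩ => ⟨t, e.symm⟩⟩
  · exact exists_nk_ffour φ h.S_two h.S_G₀ h.S_R hR h.cent (by rw [h.S_inf]; exact e1) hs e2

end Cfsg.Agent.Omega.IId.BigFour

end

-- merged: Cfsg.Agent.Mrg.Omega.IId.BigFour.NoBig
section

/-!
# II.d, `WrBigFour`: `NoBigEnt K` (helper43)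

`Ent K S P M i N` (CASE 1, unmixed), `k > 2` factors: `T = stab M i`, `R = line M i`.  The chain over `T` gives
`G₀ ≥ X, O₂(N_G(R))` with `N_G(R) ≤ N_G(G₀)`, THEOREM ID gives `X_b` with `NK T G₀ R X_b`.

An element `s ∈ N_S(T) ∖ T` gives a second factor `V_j` fixed by `T`.  The elements of `V^i ∩ Z(T)`, `V^i = ∏_{l ≠ i} V_l`,
lie in `X_b`.  Let `1 ≠ z₁ ∈ V_j ∩ Z(T)`, `1 ≠ z₂ ∈ Z(T) ∩ ∏_{l ≠ i, j} V_l`.  `L_j` centralises `z₂` and normalises `G₀`,
so it normalises `C_{G₀}(z₂) ≥ T ∩ G₀`, which centralises `X_b ∋ z₁`: `T ∩ G₀` centralises `z₁^{L_j} = V_j^#`, hence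
`V_j ≤ X_b`, and `|V_j| = q² > |X_b|`.

* `ent_false`, `ent_sitT`, **`noBigEnt`**.
-/

set_option autoImplicit false
set_option linter.unusedSectionVars false

namespace Cfsg.Agent.Omega.IId.BigFour

open Subgroup Cfsg Cfsg.Agent.ZN.ChoiceBase
open Cfsg.Agent.ZN (o2 zc zl)
open Cfsg.Agent.Omega.MinPar Cfsg.Agent.Omega.FFThm Cfsg.Agent.Omega.Frame
open Cfsg.Agent.Omega.NatPair (ap NatMod)
open Cfsg.Agent.Omega.IId.FourSide (vec_ne)
open Cfsg.Agent.Omega.IId.SideOf (isPGroup_of_sq)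

universe u

variable {G : Type u} [Group G] [Finite G] {F : Type} [Field F] [Finite F] [CharP F 2] {S : Sylow 2 G}
  {P : Subgroup G} {k : ℕ}

theorem part_le_of (M : NatK F (S : Subgroup G) P (zl (S : Subgroup G) P) ⊥ k) {X : Subgroup G} {I : Set (Fin k)}
    (h : ∀ l ∈ I, fac M l ≤ X) : part M I ≤ X := by
  revert h
  refine Set.Finite.induction_on (motive := fun I _ => (∀ l ∈ I, fac M l ≤ X) → part M I ≤ X) I I.toFinite ?_ ?_
  · intro _
    rw [part_empty]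
    exact bot_le
  · intro a I' _ _ ih h v hv
    obtain ⟨x, hx, y, hy, rfl⟩ := exists_comp M hv.1 {a}
    have hy' : y ∈ part M I' := by
      refine ⟨hy.1, fun l hl => ?_⟩
      by_cases hla : l = a
      · exact hy.2 l (fun h1 => h1 hla)
      · have h1 := hv.2 l (fun h2 => h2.elim hla hl)
        rw [M.mul _ hx.1 _ hy.1, Pi.add_apply, hx.2 l hla, zero_add] at h1
        exact h1
    exact mul_mem (h a (Set.mem_insert a I') hx) (ih (fun l hl => h l (Set.mem_insert_of_mem a hl)) hy')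

variable {M : NatK F (S : Subgroup G) P (zl (S : Subgroup G) P) ⊥ k} {i : Fin k} {N : NatMod F (fac M i)}
  {K : Cls.{u}}

/-- the point `R = line M i` -/
theorem ent_exists_pt (h : Ent K S P M i N) : ∃ k₀, BTwo.pt N k₀ = line M i :=
  ⟨⟨N.line ![1, 0], _, vec_ne, rfl⟩, h.line⟩

/-- `X` moves `R`. -/
theorem ent_X_not (h : Ent K S P M i N) :
    ¬ BTwo.XX (fac M i) (BTwo.pt N) ≤ normalizer (line M i : Set G) := by
  intro h0
  obtain ⟨k₀, hk₀⟩ := ent_exists_pt h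
  obtain ⟨k, hk, -⟩ := h.bts.third k₀ k₀
  obtain ⟨x, hx, h1⟩ := h.bts.toBT.trans_X_one k₀ k
  rw [hk₀] at h1
  have h2 : cj x (line M i) = line M i := cj_eq_of_mem_normalizer (h0 hx)
  have h3 : BTwo.pt N k = BTwo.pt N k₀ := by
    rw [← h1, hk₀]
    exact h2
  have h4 := h.bts.R_inf k k₀ hk
  rw [h3, inf_idem] at h4
  exact h.bts.R_ne k₀ h4

/-- The elements of `CenX` centralised by `T ∩ G₀` lie in `X_b`. -/
theorem ent_mem_Xb (h : Ent K S P M i N) {G₀ Xb : Subgroup G} (hX : BTwo.XX (fac M i) (BTwo.pt N) ≤ G₀)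
    (nk : NK (stab M i) G₀ (line M i) Xb) {v : G} (hv : v ∈ stab M i ⊓ G₀)
    (hc : stab M i ⊓ G₀ ≤ centralizer ({v} : Set G)) (hcx : v ∈ BTwo.CenX (fac M i) (BTwo.pt N))
    (hl : v ∉ line M i) : v ∈ Xb := by
  refine M4.mem_other nk.zU nk.mix hv hc hl fun h6 => ent_X_not h (le_trans (le_inf hX fun x hx => ?_) h6)
  rw [mem_centralizer_singleton_iff]
  exact mem_centralizer_iff.1 hcx x hx

/-- **`k > 2` is impossible.** -/
theorem ent_false (h : Ent K S P M i N) (hk : 2 < k) {G₀ Xb : Subgroup G}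
    (hX : BTwo.XX (fac M i) (BTwo.pt N) ≤ G₀) (hQ : o2 (normalizer (line M i : Set G)) ≤ G₀)
    (hN : normalizer (line M i : Set G) ≤ normalizer (G₀ : Set G)) (nk : NK (stab M i) G₀ (line M i) Xb) : False := by
  have hfact : Fact (Nat.Prime 2) := ⟨Nat.prime_two⟩
  have hSP : (S : Subgroup G) ≤ P := h.four.le
  set T := stab M i with hT
  have hTS : T ≤ (S : Subgroup G) := stab_le M i
  -- a second factor fixed by `T`
  have hlt : T < (S : Subgroup G) := by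
    refine lt_of_le_of_ne hTS fun h0 => ?_
    have h1 := card_stab M hSP i
    rw [← hT, h0] at h1
    have h2 : 0 < Nat.card (S : Subgroup G) := Nat.card_pos
    nlinarith
  have hlt' := Lib.GoldschmidtFusion.lt_inf_normalizer S.isPGroup' hlt
  obtain ⟨s, ⟨hsS, hsN⟩, hsT⟩ := SetLike.exists_of_lt hlt'
  set j := sg M (hSP hsS) i with hj
  have hji : j ≠ i := by
    intro h0
    apply hsT
    exact ⟨hsS, (mem_normalizer_fac_iff M (hSP hsS)).2 h0⟩
  have hcj : cj s (fac M i) = fac M j := conj_fac M (hSP hsS) i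
  have hTj : T ≤ normalizer (fac M j : Set G) := by
    rw [← hcj, ← cj_normalizer, ← cj_eq_of_mem_normalizer hsN]
    exact cj_mono s (stab_normalizes M i)
  have hTi : T ≤ normalizer (fac M i : Set G) := stab_normalizes M i
  have hsgi : ∀ t (ht : t ∈ T), sg M (hSP (hTS ht)) i = i := fun t ht =>
    (mem_normalizer_fac_iff M (hSP (hTS ht))).1 (hTi ht)
  have hsgj : ∀ t (ht : t ∈ T), sg M (hSP (hTS ht)) j = j := fun t ht =>
    (mem_normalizer_fac_iff M (hSP (hTS ht))).1 (hTj ht)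
  -- the other factors
  set J : Set (Fin k) := {i, j}ᶜ with hJ
  have hTJ : T ≤ normalizer (part M J : Set G) := by
    intro t ht
    rw [mem_normalizer_part_iff M (hSP (hTS ht)), hJ, Set.image_compl_eq (sg M (hSP (hTS ht))).bijective,
      Set.image_pair, hsgi t ht, hsgj t ht]
  obtain ⟨l, hl⟩ : ∃ l : Fin k, l ∈ J := by
    by_contra hcon
    push Not at hcon
    have h1 : (Finset.univ : Finset (Fin k)) ⊆ {i, j} := by
      intro l _
      have h2 := hcon l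
      rw [hJ, Set.mem_compl_iff, not_not] at h2
      simpa using h2
    have h2 := Finset.card_le_card h1
    rw [Finset.card_univ, Fintype.card_fin] at h2
    have h3 : ({i, j} : Finset (Fin k)).card ≤ 2 := Finset.card_le_two
    omega
  have hJne : part M J ≠ ⊥ := by
    intro h0
    apply fac_ne_bot M l
    rw [eq_bot_iff, ← h0]
    exact part_mono M (Set.singleton_subset_iff.2 hl)
  have hsq : ∀ I : Set (Fin k), IsPGroup 2 (part M I) := fun I =>
    isPGroup_of_sq fun x hx => sq M (part_le M I hx)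
  have hT2 : IsPGroup 2 T := S.isPGroup'.to_le hTS
  obtain ⟨z₁, hz₁, hz₁1, hz₁T⟩ := Half.exists_fixed (V := fac M j) (hsq {j}) (fac_ne_bot M j) hT2 hTj
  obtain ⟨z₂, hz₂, hz₂1, hz₂T⟩ := Half.exists_fixed (V := part M J) (hsq J) hJne hT2 hTJ
  -- `V^i ≤ T ∩ G₀ ∩ CenX`
  have hall : ∀ I : Set (Fin k), part M I ≤ o2 (normalizer (line M i : Set G)) := fun I =>
    part_le_of M fun l _ => h.four.one.all_le l
  have hpT : ∀ I : Set (Fin k), part M I ≤ T ⊓ G₀ := fun I => le_inf ((hall I).trans h.four.one.QT) ((hall I).trans hQ)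
  have hcen : ∀ I : Set (Fin k), i ∉ I → part M I ≤ BTwo.CenX (fac M i) (BTwo.pt N) := fun I hI =>
    part_le_of M fun l hl => h.cen l fun h0 => hI (h0 ▸ hl)
  have hline : ∀ I : Set (Fin k), i ∉ I → ∀ v ∈ part M I, v ∈ line M i → v = 1 := by
    intro I hI v hv hvl
    have h1 : v ∈ part M (I ∩ {i}) := by
      rw [← part_inf]
      exact ⟨hv, line_le M i hvl⟩
    rw [Set.inter_singleton_eq_empty.2 hI, part_empty] at h1
    exact mem_bot.1 h1
  have hiJ : i ∉ J := by rw [hJ]; simp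
  have hij : i ∉ ({j} : Set (Fin k)) := fun h0 => hji (Set.mem_singleton_iff.1 h0).symm
  have hdis : Disjoint ({j} : Set (Fin k)) J := by
    rw [Set.disjoint_singleton_left, hJ]; simp
  have hfix : ∀ {v : G}, (∀ t ∈ T, t * v * t⁻¹ = v) → T ⊓ G₀ ≤ centralizer ({v} : Set G) := by
    intro v hv t ht
    rw [mem_centralizer_singleton_iff]
    have h1 := hv t ht.1
    calc t * v = t * v * t⁻¹ * t := by group
      _ = v * t := by rw [h1]
  have hz₁b : z₁ ∈ Xb := ent_mem_Xb h hX nk (hpT _ hz₁) (hfix hz₁T) (hcen _ hij hz₁) fun h0 => hz₁1 (hline _ hij _ hz₁ h0)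
  have hz₂b : z₂ ∈ Xb := ent_mem_Xb h hX nk (hpT _ hz₂) (hfix hz₂T) (hcen _ hiJ hz₂) fun h0 => hz₂1 (hline _ hiJ _ hz₂ h0)
  -- `V_j ≤ X_b`
  have hle : fac M j ≤ Xb := by
    intro v hv
    by_cases hv1 : v = 1
    · rw [hv1]; exact one_mem _
    obtain ⟨g, hg, rfl⟩ := exists_grp M hz₁ hv hz₁1 hv1
    -- `g ∈ L_j` centralises `z₂` and `R`
    have hgz : g * z₂ = z₂ * g := grp_comm M hdis hg hz₂
    have hgR : g ∈ normalizer (line M i : Set G) := by
      apply centralizer_le_normalizer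
      rw [mem_centralizer_iff]
      intro r hr
      exact (grp_comm M (Set.disjoint_singleton.2 hji) hg (line_le M i hr)).symm
    have hgG := hN hgR
    refine ent_mem_Xb h hX nk (hpT _ hv) (fun u hu => ?_) (hcen _ hij hv) fun h0 => hv1 (hline _ hij _ hv h0)
    have hu2 := mem_centralizer_singleton_iff.1 (hfix hz₂T hu)
    have hgu : g⁻¹ * u * g ∈ G₀ := by
      have := (mem_normalizer_iff.1 (inv_mem hgG) u).1 hu.2
      rwa [inv_inv] at this
    have hgz' : g⁻¹ * z₂ = z₂ * g⁻¹ := by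
      calc g⁻¹ * z₂ = g⁻¹ * (z₂ * g) * g⁻¹ := by group
        _ = z₂ * g⁻¹ := by rw [← hgz]; group
    have h1 : g⁻¹ * u * g ∈ centralizer (Xb : Set G) := by
      refine nk.one z₂ hz₂b hz₂1 ⟨hgu, mem_centralizer_singleton_iff.2 ?_⟩
      calc g⁻¹ * u * g * z₂ = g⁻¹ * (u * z₂) * g := by rw [mul_assoc, hgz]; group
        _ = g⁻¹ * z₂ * u * g := by rw [hu2]; group
        _ = z₂ * (g⁻¹ * u * g) := by rw [hgz']; group
    have h2 := mem_centralizer_iff.1 h1 z₁ hz₁b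
    rw [mem_centralizer_singleton_iff]
    calc u * (g * z₁ * g⁻¹) = g * (g⁻¹ * u * g * z₁) * g⁻¹ := by group
      _ = g * (z₁ * (g⁻¹ * u * g)) * g⁻¹ := by rw [h2]
      _ = g * z₁ * g⁻¹ * u := by group
  -- `q² ≤ |X_b| ≤ q`
  have h1 := (card_le_of_le hle).trans nk.card
  rw [card_fac, card_line] at h1
  have h2 : 4 ≤ Nat.card F := h.four.q4
  nlinarith

open Cfsg.Agent.Omega.HOne.TLift in
/-- `SitT` for `BigFour.Ent` -/
theorem ent_sitT (h : Ent K S P M i N) (hk : 2 < k) : SitT (stab M i) N where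
  ctx := h.hyp.ctx
  two := h.four.T2
  le_N := stab_normalizes M i
  exists_pt := by
    refine ⟨⟨N.line ![1, 0], _, vec_ne, rfl⟩, ?_⟩
    have h1 : BTwo.pt N ⟨N.line ![1, 0], _, vec_ne, rfl⟩ = line M i := h.line
    rw [h1]
    refine ⟨stab_normalizes_line M h.four.le i, ?_⟩
    rw [← Nat.not_even_iff_odd, even_iff_two_dvd]
    exact h.four.syl
  bts := h.bts
  four := h.four.q4
  CenX_ne := by
    intro h0
    obtain ⟨j, hj⟩ : ∃ j : Fin k, j ≠ i := by
      have : Nontrivial (Fin k) := Fin.nontrivial_iff_two_le.2 hk.le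
      exact exists_ne i
    apply fac_ne_bot M j
    rw [eq_bot_iff, ← h0]
    exact h.cen j hj

open Cfsg.Agent.Omega.HOne.TLift Cfsg.Agent.Omega.HOneQ.SylIOf in
/-- **`NoBigEnt K`** from the sockets of the chain over `T`. -/
theorem noBigEnt (KR : Cfsg.Agent.Omega.Lie.LayerMain.KRows.{u}) (hF : FrT.{u}) (hD : DT.{u}) (hRs : RsT.{u})
    (hNV : NVT.{u}) (hRes : ResT.{u}) (hGa : GaT.{u}) : NoBigEnt K := by
  intro G _ _ S P F _ _ _ k M i N hk h
  obtain ⟨k₀, hk₀⟩ := ent_exists_pt h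
  have h' := ent_sitT h hk
  have hi : TSyl (fac M i) (BTwo.pt N) k₀ (stab M i) := by
    refine ⟨h'.two, h'.le_N, ?_, ?_⟩
    · rw [hk₀]
      exact stab_normalizes_line M h.four.le i
    · rw [hk₀, ← Nat.not_even_iff_odd, even_iff_two_dvd]
      exact h.four.syl
  obtain ⟨G₀, U, x, o⟩ := h'.out (h'.layS KR) hF hD hRs hNV hRes hGa hi
  have h1 := o.endIn
  have h2 := o.Q_le
  rw [hk₀] at h1 h2
  obtain ⟨Xb, nk⟩ := idN h1
  exact ent_false h hk o.X_le h2 h1.N_R nk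

end Cfsg.Agent.Omega.IId.BigFour

end
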